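import Cfsg.Agent.Spor.C3F.D0

set_option autoImplicit false
set_option maxRecDepth 100000000
set_option Elab.async false

namespace Cfsg.Agent.Spor.C3F

theorem ok0 : Net.okb 15 n0 = true := by decide +kernel

theorem ok1 : Net.okb 15 n1 = true := by decide +kernel

theorem ok2 : Net.okb 15 n2 = true := by decide +kernel

theorem rel0 : T.rel 15 [1, 1] 0 15 = true := by decide +kernel

theorem rel1 : T.rel 15 [2, 2] 0 15 = true := by decide +kernel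

theorem rel2 : T.rel 15 [3, 3] 0 15 = true := by decide +kernel

theorem rel3 : T.rel 15 [2, 1, 2, 1, 2, 1, 2, 1] 0 15 = true := by decide +kernel

theorem rel4 : T.rel 15 [3, 1, 3, 1, 3, 1, 3, 1, 3, 1, 3, 1] 0 15 = true := by decide +kernel

theorem rel5 : T.rel 15 [3, 2, 3, 2, 3, 2, 3, 2] 0 15 = true := by decide +kernel

theorem rel6 : T.rel 15 [1, 2, 1, 2, 3, 1, 2, 1, 2, 3, 2, 1, 2, 1, 3] 0 15 = true := by decide +kernel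

theorem rel7 : T.rel 15 [1, 2, 3, 1, 2, 3, 2, 3, 1, 3, 1, 2, 3, 2, 3, 1, 3, 2, 1, 3, 2, 3] 0 15 = true := by decide +kernel

theorem rel8 : T.rel 15 [1, 2, 1, 3, 1, 3, 1, 2, 3, 1, 2, 3, 1, 2, 3, 1, 2, 3, 1, 2, 3, 2, 1, 2, 3] 0 15 = true := by decide +kernel

theorem hcov : T.treeCov (ones 21504) L 1 = true := by decide +kernel

theorem hg : lall (fun z => band (memL L z) (band (sub (ones 21504) (T.let z).cl) (T.closed (ones 21504) z))) gs = true := by decide +kernel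

theorem rot1_1 : T.rot 1 [1] (sel (ones 21504) ip1 1) = true := by decide +kernel

theorem rot1_1r : band (Rule.ok (2 * 3) EX RL ⟨1 :: [1], [], 6, false⟩) (lall (memL L) [1]) = true := by decide +kernel

theorem rot1_2 : T.rot 1 [2, 1, 2, 1, 2, 1, 2] (sel (ones 21504) ip1 2) = true := by decide +kernel

theorem rot1_2r : band (Rule.ok (2 * 3) EX RL ⟨1 :: [2, 1, 2, 1, 2, 1, 2], [], 0, false⟩) (lall (memL L) [2, 1, 2, 1, 2, 1, 2]) = true := by decide +kernel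

theorem rot1_3 : T.rot 1 [3, 1, 3, 1, 3, 1, 3, 1, 3, 1, 3] (sel (ones 21504) ip1 3) = true := by decide +kernel

theorem rot1_3r : band (Rule.ok (2 * 3) EX RL ⟨1 :: [3, 1, 3, 1, 3, 1, 3, 1, 3, 1, 3], [], 1, false⟩) (lall (memL L) [3, 1, 3, 1, 3, 1, 3, 1, 3, 1, 3]) = true := by decide +kernel

theorem rot1_4 : T.rot 1 [2, 1, 2, 3, 1, 2, 1, 2, 3, 2, 1, 2, 1, 3] (sel (ones 21504) ip1 4) = true := by decide +kernel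

theorem rot1_4r : band (Rule.ok (2 * 3) EX RL ⟨1 :: [2, 1, 2, 3, 1, 2, 1, 2, 3, 2, 1, 2, 1, 3], [], 3, true⟩) (lall (memL L) [2, 1, 2, 3, 1, 2, 1, 2, 3, 2, 1, 2, 1, 3]) = true := by decide +kernel

theorem rot1_5 : T.rot 1 [2, 3, 1, 2, 1, 2, 3, 2, 1, 2, 1, 3, 1, 2] (sel (ones 21504) ip1 5) = true := by decide +kernel

theorem rot1_5r : band (Rule.ok (2 * 3) EX RL ⟨1 :: [2, 3, 1, 2, 1, 2, 3, 2, 1, 2, 1, 3, 1, 2], [0, 2], 3, true⟩) (lall (memL L) [2, 3, 1, 2, 1, 2, 3, 2, 1, 2, 1, 3, 1, 2]) = true := by decide +kernel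

theorem rot1_6 : T.rot 1 [2, 1, 2, 3, 2, 1, 2, 1, 3, 1, 2, 1, 2, 3] (sel (ones 21504) ip1 6) = true := by decide +kernel

theorem rot1_6r : band (Rule.ok (2 * 3) EX RL ⟨1 :: [2, 1, 2, 3, 2, 1, 2, 1, 3, 1, 2, 1, 2, 3], [0, 2, 0, 2, 4], 3, true⟩) (lall (memL L) [2, 1, 2, 3, 2, 1, 2, 1, 3, 1, 2, 1, 2, 3]) = true := by decide +kernel

theorem rot1_7 : T.rot 1 [2, 3, 2, 1, 2, 1, 3, 1, 2, 1, 2, 3, 1, 2] (sel (ones 21504) ip1 7) = true := by decide +kernel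

theorem rot1_7r : band (Rule.ok (2 * 3) EX RL ⟨1 :: [2, 3, 2, 1, 2, 1, 3, 1, 2, 1, 2, 3, 1, 2], [0, 2, 0, 2, 4, 0, 2], 3, true⟩) (lall (memL L) [2, 3, 2, 1, 2, 1, 3, 1, 2, 1, 2, 3, 1, 2]) = true := by decide +kernel

theorem rot1_8 : T.rot 1 [2, 1, 3, 1, 2, 1, 2, 3, 1, 2, 1, 2, 3, 2] (sel (ones 21504) ip1 8) = true := by decide +kernel

theorem rot1_8r : band (Rule.ok (2 * 3) EX RL ⟨1 :: [2, 1, 3, 1, 2, 1, 2, 3, 1, 2, 1, 2, 3, 2], [4, 0, 2, 0], 3, true⟩) (lall (memL L) [2, 1, 3, 1, 2, 1, 2, 3, 1, 2, 1, 2, 3, 2]) = true := by decide +kernel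

theorem rot1_9 : T.rot 1 [3, 1, 2, 1, 2, 3, 1, 2, 1, 2, 3, 2, 1, 2] (sel (ones 21504) ip1 9) = true := by decide +kernel

theorem rot1_9r : band (Rule.ok (2 * 3) EX RL ⟨1 :: [3, 1, 2, 1, 2, 3, 1, 2, 1, 2, 3, 2, 1, 2], [4, 0], 3, true⟩) (lall (memL L) [3, 1, 2, 1, 2, 3, 1, 2, 1, 2, 3, 2, 1, 2]) = true := by decide +kernel

theorem rot1_10 : T.rot 1 [2, 1, 2, 3, 2, 1, 2, 1, 3, 2, 1, 2, 1, 3] (sel (ones 21504) ip1 10) = true := by decide +kernel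

theorem rot1_10r : band (Rule.ok (2 * 3) EX RL ⟨1 :: [2, 1, 2, 3, 2, 1, 2, 1, 3, 2, 1, 2, 1, 3], [4], 3, false⟩) (lall (memL L) [2, 1, 2, 3, 2, 1, 2, 1, 3, 2, 1, 2, 1, 3]) = true := by decide +kernel

theorem rot1_11 : T.rot 1 [2, 3, 2, 1, 2, 1, 3, 2, 1, 2, 1, 3, 1, 2] (sel (ones 21504) ip1 11) = true := by decide +kernel

theorem rot1_11r : band (Rule.ok (2 * 3) EX RL ⟨1 :: [2, 3, 2, 1, 2, 1, 3, 2, 1, 2, 1, 3, 1, 2], [4, 0, 2], 3, false⟩) (lall (memL L) [2, 3, 2, 1, 2, 1, 3, 2, 1, 2, 1, 3, 1, 2]) = true := by decide +kernel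

theorem rot1_12 : T.rot 1 [2, 1, 3, 2, 1, 2, 1, 3, 1, 2, 1, 2, 3, 2] (sel (ones 21504) ip1 12) = true := by decide +kernel

theorem rot1_12r : band (Rule.ok (2 * 3) EX RL ⟨1 :: [2, 1, 3, 2, 1, 2, 1, 3, 1, 2, 1, 2, 3, 2], [4, 0, 2, 0, 2, 4, 2], 3, false⟩) (lall (memL L) [2, 1, 3, 2, 1, 2, 1, 3, 1, 2, 1, 2, 3, 2]) = true := by decide +kernel

theorem rot1_13 : T.rot 1 [3, 2, 1, 2, 1, 3, 1, 2, 1, 2, 3, 2, 1, 2] (sel (ones 21504) ip1 13) = true := by decide +kernel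

theorem rot1_13r : band (Rule.ok (2 * 3) EX RL ⟨1 :: [3, 2, 1, 2, 1, 3, 1, 2, 1, 2, 3, 2, 1, 2], [0, 2, 0, 2, 4, 0], 3, false⟩) (lall (memL L) [3, 2, 1, 2, 1, 3, 1, 2, 1, 2, 3, 2, 1, 2]) = true := by decide +kernel

theorem rot1_14 : T.rot 1 [2, 1, 3, 1, 2, 1, 2, 3, 2, 1, 2, 1, 3, 2] (sel (ones 21504) ip1 14) = true := by decide +kernel

theorem rot1_14r : band (Rule.ok (2 * 3) EX RL ⟨1 :: [2, 1, 3, 1, 2, 1, 2, 3, 2, 1, 2, 1, 3, 2], [0, 2, 0], 3, false⟩) (lall (memL L) [2, 1, 3, 1, 2, 1, 2, 3, 2, 1, 2, 1, 3, 2]) = true := by decide +kernel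

theorem rot1_15 : T.rot 1 [3, 1, 2, 1, 2, 3, 2, 1, 2, 1, 3, 2, 1, 2] (sel (ones 21504) ip1 15) = true := by decide +kernel

theorem rot1_15r : band (Rule.ok (2 * 3) EX RL ⟨1 :: [3, 1, 2, 1, 2, 3, 2, 1, 2, 1, 3, 2, 1, 2], [0], 3, false⟩) (lall (memL L) [3, 1, 2, 1, 2, 3, 2, 1, 2, 1, 3, 2, 1, 2]) = true := by decide +kernel

theorem rot1_16 : T.rot 1 [2, 3, 1, 2, 3, 2, 3, 1, 3, 1, 2, 3, 2, 3, 1, 3, 2, 1, 3, 2, 3] (sel (ones 21504) ip1 16) = true := by decide +kernel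

theorem rot1_16r : band (Rule.ok (2 * 3) EX RL ⟨1 :: [2, 3, 1, 2, 3, 2, 3, 1, 3, 1, 2, 3, 2, 3, 1, 3, 2, 1, 3, 2, 3], [], 4, true⟩) (lall (memL L) [2, 3, 1, 2, 3, 2, 3, 1, 3, 1, 2, 3, 2, 3, 1, 3, 2, 1, 3, 2, 3]) = true := by decide +kernel

theorem rot1_17 : T.rot 1 [2, 3, 2, 3, 1, 3, 1, 2, 3, 2, 3, 1, 3, 2, 1, 3, 2, 3, 1, 2, 3] (sel (ones 21504) ip1 17) = true := by decide +kernel

theorem rot1_17r : band (Rule.ok (2 * 3) EX RL ⟨1 :: [2, 3, 2, 3, 1, 3, 1, 2, 3, 2, 3, 1, 3, 2, 1, 3, 2, 3, 1, 2, 3], [0, 2, 4], 4, true⟩) (lall (memL L) [2, 3, 2, 3, 1, 3, 1, 2, 3, 2, 3, 1, 3, 2, 1, 3, 2, 3, 1, 2, 3]) = true := by decide +kernel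

theorem rot1_18 : T.rot 1 [3, 1, 2, 3, 2, 3, 1, 3, 2, 1, 3, 2, 3, 1, 2, 3, 1, 2, 3, 2, 3] (sel (ones 21504) ip1 18) = true := by decide +kernel

theorem rot1_18r : band (Rule.ok (2 * 3) EX RL ⟨1 :: [3, 1, 2, 3, 2, 3, 1, 3, 2, 1, 3, 2, 3, 1, 2, 3, 1, 2, 3, 2, 3], [0, 2, 4, 0, 2, 4, 2, 4], 4, true⟩) (lall (memL L) [3, 1, 2, 3, 2, 3, 1, 3, 2, 1, 3, 2, 3, 1, 2, 3, 1, 2, 3, 2, 3]) = true := by decide +kernel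

theorem rot1_19 : T.rot 1 [2, 3, 2, 3, 1, 3, 2, 1, 3, 2, 3, 1, 2, 3, 1, 2, 3, 2, 3, 1, 3] (sel (ones 21504) ip1 19) = true := by decide +kernel

theorem rot1_19r : band (Rule.ok (2 * 3) EX RL ⟨1 :: [2, 3, 2, 3, 1, 3, 2, 1, 3, 2, 3, 1, 2, 3, 1, 2, 3, 2, 3, 1, 3], [0, 2, 4, 0, 2, 4, 2, 4, 0, 4], 4, true⟩) (lall (memL L) [2, 3, 2, 3, 1, 3, 2, 1, 3, 2, 3, 1, 2, 3, 1, 2, 3, 2, 3, 1, 3]) = true := by decide +kernel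

theorem rot1_20 : T.rot 1 [3, 2, 1, 3, 2, 3, 1, 2, 3, 1, 2, 3, 2, 3, 1, 3, 1, 2, 3, 2, 3] (sel (ones 21504) ip1 20) = true := by decide +kernel

theorem rot1_20r : band (Rule.ok (2 * 3) EX RL ⟨1 :: [3, 2, 1, 3, 2, 3, 1, 2, 3, 1, 2, 3, 2, 3, 1, 3, 1, 2, 3, 2, 3], [4, 2, 4, 0, 2, 4, 0], 4, true⟩) (lall (memL L) [3, 2, 1, 3, 2, 3, 1, 2, 3, 1, 2, 3, 2, 3, 1, 3, 1, 2, 3, 2, 3]) = true := by decide +kernel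

theorem rot1_21 : T.rot 1 [3, 2, 3, 1, 2, 3, 1, 2, 3, 2, 3, 1, 3, 1, 2, 3, 2, 3, 1, 3, 2] (sel (ones 21504) ip1 21) = true := by decide +kernel

theorem rot1_21r : band (Rule.ok (2 * 3) EX RL ⟨1 :: [3, 2, 3, 1, 2, 3, 1, 2, 3, 2, 3, 1, 3, 1, 2, 3, 2, 3, 1, 3, 2], [4, 2, 4, 0], 4, true⟩) (lall (memL L) [3, 2, 3, 1, 2, 3, 1, 2, 3, 2, 3, 1, 3, 1, 2, 3, 2, 3, 1, 3, 2]) = true := by decide +kernel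

theorem rot1_22 : T.rot 1 [2, 3, 1, 3, 2, 3, 2, 1, 3, 1, 3, 2, 3, 2, 1, 3, 2, 1, 3, 2, 3] (sel (ones 21504) ip1 22) = true := by decide +kernel

theorem rot1_22r : band (Rule.ok (2 * 3) EX RL ⟨1 :: [2, 3, 1, 3, 2, 3, 2, 1, 3, 1, 3, 2, 3, 2, 1, 3, 2, 1, 3, 2, 3], [4, 2, 4], 4, false⟩) (lall (memL L) [2, 3, 1, 3, 2, 3, 2, 1, 3, 1, 3, 2, 3, 2, 1, 3, 2, 1, 3, 2, 3]) = true := by decide +kernel

theorem rot1_23 : T.rot 1 [3, 2, 3, 2, 1, 3, 1, 3, 2, 3, 2, 1, 3, 2, 1, 3, 2, 3, 1, 2, 3] (sel (ones 21504) ip1 23) = true := by decide +kernel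

theorem rot1_23r : band (Rule.ok (2 * 3) EX RL ⟨1 :: [3, 2, 3, 2, 1, 3, 1, 3, 2, 3, 2, 1, 3, 2, 1, 3, 2, 3, 1, 2, 3], [4, 2, 4, 0, 2, 4], 4, false⟩) (lall (memL L) [3, 2, 3, 2, 1, 3, 1, 3, 2, 3, 2, 1, 3, 2, 1, 3, 2, 3, 1, 2, 3]) = true := by decide +kernel

theorem rot1_24 : T.rot 1 [3, 1, 3, 2, 3, 2, 1, 3, 2, 1, 3, 2, 3, 1, 2, 3, 1, 3, 2, 3, 2] (sel (ones 21504) ip1 24) = true := by decide +kernel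

theorem rot1_24r : band (Rule.ok (2 * 3) EX RL ⟨1 :: [3, 1, 3, 2, 3, 2, 1, 3, 2, 1, 3, 2, 3, 1, 2, 3, 1, 3, 2, 3, 2], [0, 2, 4, 0, 2, 4, 2, 4, 0, 4, 0], 4, false⟩) (lall (memL L) [3, 1, 3, 2, 3, 2, 1, 3, 2, 1, 3, 2, 3, 1, 2, 3, 1, 3, 2, 3, 2]) = true := by decide +kernel

theorem rot1_25 : T.rot 1 [3, 2, 3, 2, 1, 3, 2, 1, 3, 2, 3, 1, 2, 3, 1, 3, 2, 3, 2, 1, 3] (sel (ones 21504) ip1 25) = true := by decide +kernel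

theorem rot1_25r : band (Rule.ok (2 * 3) EX RL ⟨1 :: [3, 2, 3, 2, 1, 3, 2, 1, 3, 2, 3, 1, 2, 3, 1, 3, 2, 3, 2, 1, 3], [0, 2, 4, 0, 2, 4, 2, 4, 0], 4, false⟩) (lall (memL L) [3, 2, 3, 2, 1, 3, 2, 1, 3, 2, 3, 1, 2, 3, 1, 3, 2, 3, 2, 1, 3]) = true := by decide +kernel

theorem rot1_26 : T.rot 1 [3, 2, 1, 3, 2, 3, 1, 2, 3, 1, 3, 2, 3, 2, 1, 3, 1, 3, 2, 3, 2] (sel (ones 21504) ip1 26) = true := by decide +kernel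

theorem rot1_26r : band (Rule.ok (2 * 3) EX RL ⟨1 :: [3, 2, 1, 3, 2, 3, 1, 2, 3, 1, 3, 2, 3, 2, 1, 3, 1, 3, 2, 3, 2], [0, 2, 4, 0], 4, false⟩) (lall (memL L) [3, 2, 1, 3, 2, 3, 1, 2, 3, 1, 3, 2, 3, 2, 1, 3, 1, 3, 2, 3, 2]) = true := by decide +kernel

theorem rot1_27 : T.rot 1 [3, 2, 3, 1, 2, 3, 1, 3, 2, 3, 2, 1, 3, 1, 3, 2, 3, 2, 1, 3, 2] (sel (ones 21504) ip1 27) = true := by decide +kernel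

theorem rot1_27r : band (Rule.ok (2 * 3) EX RL ⟨1 :: [3, 2, 3, 1, 2, 3, 1, 3, 2, 3, 2, 1, 3, 1, 3, 2, 3, 2, 1, 3, 2], [0], 4, false⟩) (lall (memL L) [3, 2, 3, 1, 2, 3, 1, 3, 2, 3, 2, 1, 3, 1, 3, 2, 3, 2, 1, 3, 2]) = true := by decide +kernel

theorem rot1_28 : T.rot 1 [2, 1, 3, 1, 3, 1, 2, 3, 1, 2, 3, 1, 2, 3, 1, 2, 3, 1, 2, 3, 2, 1, 2, 3] (sel (ones 21504) ip1 28) = true := by decide +kernel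

theorem rot1_28r : band (Rule.ok (2 * 3) EX RL ⟨1 :: [2, 1, 3, 1, 3, 1, 2, 3, 1, 2, 3, 1, 2, 3, 1, 2, 3, 1, 2, 3, 2, 1, 2, 3], [], 5, true⟩) (lall (memL L) [2, 1, 3, 1, 3, 1, 2, 3, 1, 2, 3, 1, 2, 3, 1, 2, 3, 1, 2, 3, 2, 1, 2, 3]) = true := by decide +kernel

theorem rot1_29 : T.rot 1 [3, 1, 3, 1, 2, 3, 1, 2, 3, 1, 2, 3, 1, 2, 3, 1, 2, 3, 2, 1, 2, 3, 1, 2] (sel (ones 21504) ip1 29) = true := by decide +kernel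

theorem rot1_29r : band (Rule.ok (2 * 3) EX RL ⟨1 :: [3, 1, 3, 1, 2, 3, 1, 2, 3, 1, 2, 3, 1, 2, 3, 1, 2, 3, 2, 1, 2, 3, 1, 2], [0, 2], 5, true⟩) (lall (memL L) [3, 1, 3, 1, 2, 3, 1, 2, 3, 1, 2, 3, 1, 2, 3, 1, 2, 3, 2, 1, 2, 3, 1, 2]) = true := by decide +kernel

theorem rot1_30 : T.rot 1 [3, 1, 2, 3, 1, 2, 3, 1, 2, 3, 1, 2, 3, 1, 2, 3, 2, 1, 2, 3, 1, 2, 1, 3] (sel (ones 21504) ip1 30) = true := by decide +kernel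

theorem rot1_30r : band (Rule.ok (2 * 3) EX RL ⟨1 :: [3, 1, 2, 3, 1, 2, 3, 1, 2, 3, 1, 2, 3, 1, 2, 3, 2, 1, 2, 3, 1, 2, 1, 3], [0, 2, 0, 4], 5, true⟩) (lall (memL L) [3, 1, 2, 3, 1, 2, 3, 1, 2, 3, 1, 2, 3, 1, 2, 3, 2, 1, 2, 3, 1, 2, 1, 3]) = true := by decide +kernel

theorem rot1_31 : T.rot 1 [2, 3, 1, 2, 3, 1, 2, 3, 1, 2, 3, 1, 2, 3, 2, 1, 2, 3, 1, 2, 1, 3, 1, 3] (sel (ones 21504) ip1 31) = true := by decide +kernel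

theorem rot1_31r : band (Rule.ok (2 * 3) EX RL ⟨1 :: [2, 3, 1, 2, 3, 1, 2, 3, 1, 2, 3, 1, 2, 3, 2, 1, 2, 3, 1, 2, 1, 3, 1, 3], [0, 2, 0, 4, 0, 4], 5, true⟩) (lall (memL L) [2, 3, 1, 2, 3, 1, 2, 3, 1, 2, 3, 1, 2, 3, 2, 1, 2, 3, 1, 2, 1, 3, 1, 3]) = true := by decide +kernel

theorem rot1_32 : T.rot 1 [2, 3, 1, 2, 3, 1, 2, 3, 1, 2, 3, 2, 1, 2, 3, 1, 2, 1, 3, 1, 3, 1, 2, 3] (sel (ones 21504) ip1 32) = true := by decide +kernel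

theorem rot1_32r : band (Rule.ok (2 * 3) EX RL ⟨1 :: [2, 3, 1, 2, 3, 1, 2, 3, 1, 2, 3, 2, 1, 2, 3, 1, 2, 1, 3, 1, 3, 1, 2, 3], [0, 2, 0, 4, 0, 4, 0, 2, 4], 5, true⟩) (lall (memL L) [2, 3, 1, 2, 3, 1, 2, 3, 1, 2, 3, 2, 1, 2, 3, 1, 2, 1, 3, 1, 3, 1, 2, 3]) = true := by decide +kernel

theorem rot1_33 : T.rot 1 [2, 3, 1, 2, 3, 1, 2, 3, 2, 1, 2, 3, 1, 2, 1, 3, 1, 3, 1, 2, 3, 1, 2, 3] (sel (ones 21504) ip1 33) = true := by decide +kernel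

theorem rot1_33r : band (Rule.ok (2 * 3) EX RL ⟨1 :: [2, 3, 1, 2, 3, 1, 2, 3, 2, 1, 2, 3, 1, 2, 1, 3, 1, 3, 1, 2, 3, 1, 2, 3], [0, 2, 0, 4, 0, 4, 0, 2, 4, 0, 2, 4], 5, true⟩) (lall (memL L) [2, 3, 1, 2, 3, 1, 2, 3, 2, 1, 2, 3, 1, 2, 1, 3, 1, 3, 1, 2, 3, 1, 2, 3]) = true := by decide +kernel

theorem rot1_34 : T.rot 1 [2, 3, 1, 2, 3, 2, 1, 2, 3, 1, 2, 1, 3, 1, 3, 1, 2, 3, 1, 2, 3, 1, 2, 3] (sel (ones 21504) ip1 34) = true := by decide +kernel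

theorem rot1_34r : band (Rule.ok (2 * 3) EX RL ⟨1 :: [2, 3, 1, 2, 3, 2, 1, 2, 3, 1, 2, 1, 3, 1, 3, 1, 2, 3, 1, 2, 3, 1, 2, 3], [4, 2, 0, 2, 4, 2, 0, 4, 2, 0], 5, true⟩) (lall (memL L) [2, 3, 1, 2, 3, 2, 1, 2, 3, 1, 2, 1, 3, 1, 3, 1, 2, 3, 1, 2, 3, 1, 2, 3]) = true := by decide +kernel

theorem rot1_35 : T.rot 1 [2, 3, 2, 1, 2, 3, 1, 2, 1, 3, 1, 3, 1, 2, 3, 1, 2, 3, 1, 2, 3, 1, 2, 3] (sel (ones 21504) ip1 35) = true := by decide +kernel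

theorem rot1_35r : band (Rule.ok (2 * 3) EX RL ⟨1 :: [2, 3, 2, 1, 2, 3, 1, 2, 1, 3, 1, 3, 1, 2, 3, 1, 2, 3, 1, 2, 3, 1, 2, 3], [4, 2, 0, 2, 4, 2, 0], 5, true⟩) (lall (memL L) [2, 3, 2, 1, 2, 3, 1, 2, 1, 3, 1, 3, 1, 2, 3, 1, 2, 3, 1, 2, 3, 1, 2, 3]) = true := by decide +kernel

theorem rot1_36 : T.rot 1 [2, 3, 1, 2, 1, 3, 1, 3, 1, 2, 3, 1, 2, 3, 1, 2, 3, 1, 2, 3, 1, 2, 3, 2] (sel (ones 21504) ip1 36) = true := by decide +kernel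

theorem rot1_36r : band (Rule.ok (2 * 3) EX RL ⟨1 :: [2, 3, 1, 2, 1, 3, 1, 3, 1, 2, 3, 1, 2, 3, 1, 2, 3, 1, 2, 3, 1, 2, 3, 2], [4, 2, 0], 5, true⟩) (lall (memL L) [2, 3, 1, 2, 1, 3, 1, 3, 1, 2, 3, 1, 2, 3, 1, 2, 3, 1, 2, 3, 1, 2, 3, 2]) = true := by decide +kernel

theorem rot1_37 : T.rot 1 [2, 3, 2, 1, 3, 2, 1, 3, 2, 1, 3, 2, 1, 3, 2, 1, 3, 1, 3, 1, 2, 1, 3, 2] (sel (ones 21504) ip1 37) = true := by decide +kernel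

theorem rot1_37r : band (Rule.ok (2 * 3) EX RL ⟨1 :: [2, 3, 2, 1, 3, 2, 1, 3, 2, 1, 3, 2, 1, 3, 2, 1, 3, 1, 3, 1, 2, 1, 3, 2], [4, 2], 5, false⟩) (lall (memL L) [2, 3, 2, 1, 3, 2, 1, 3, 2, 1, 3, 2, 1, 3, 2, 1, 3, 1, 3, 1, 2, 1, 3, 2]) = true := by decide +kernel

theorem rot1_38 : T.rot 1 [3, 2, 1, 3, 2, 1, 3, 2, 1, 3, 2, 1, 3, 1, 3, 1, 2, 1, 3, 2, 1, 2, 3, 2] (sel (ones 21504) ip1 38) = true := by decide +kernel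

theorem rot1_38r : band (Rule.ok (2 * 3) EX RL ⟨1 :: [3, 2, 1, 3, 2, 1, 3, 2, 1, 3, 2, 1, 3, 1, 3, 1, 2, 1, 3, 2, 1, 2, 3, 2], [4, 2, 0, 2, 4, 2], 5, false⟩) (lall (memL L) [3, 2, 1, 3, 2, 1, 3, 2, 1, 3, 2, 1, 3, 1, 3, 1, 2, 1, 3, 2, 1, 2, 3, 2]) = true := by decide +kernel

theorem rot1_39 : T.rot 1 [3, 2, 1, 3, 2, 1, 3, 2, 1, 3, 1, 3, 1, 2, 1, 3, 2, 1, 2, 3, 2, 1, 3, 2] (sel (ones 21504) ip1 39) = true := by decide +kernel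

theorem rot1_39r : band (Rule.ok (2 * 3) EX RL ⟨1 :: [3, 2, 1, 3, 2, 1, 3, 2, 1, 3, 1, 3, 1, 2, 1, 3, 2, 1, 2, 3, 2, 1, 3, 2], [4, 2, 0, 2, 4, 2, 0, 4, 2], 5, false⟩) (lall (memL L) [3, 2, 1, 3, 2, 1, 3, 2, 1, 3, 1, 3, 1, 2, 1, 3, 2, 1, 2, 3, 2, 1, 3, 2]) = true := by decide +kernel

theorem rot1_40 : T.rot 1 [3, 2, 1, 3, 2, 1, 3, 1, 3, 1, 2, 1, 3, 2, 1, 2, 3, 2, 1, 3, 2, 1, 3, 2] (sel (ones 21504) ip1 40) = true := by decide +kernel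

theorem rot1_40r : band (Rule.ok (2 * 3) EX RL ⟨1 :: [3, 2, 1, 3, 2, 1, 3, 1, 3, 1, 2, 1, 3, 2, 1, 2, 3, 2, 1, 3, 2, 1, 3, 2], [4, 2, 0, 2, 4, 2, 0, 4, 2, 0, 4, 2], 5, false⟩) (lall (memL L) [3, 2, 1, 3, 2, 1, 3, 1, 3, 1, 2, 1, 3, 2, 1, 2, 3, 2, 1, 3, 2, 1, 3, 2]) = true := by decide +kernel

theorem rot1_41 : T.rot 1 [3, 2, 1, 3, 1, 3, 1, 2, 1, 3, 2, 1, 2, 3, 2, 1, 3, 2, 1, 3, 2, 1, 3, 2] (sel (ones 21504) ip1 41) = true := by decide +kernel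

theorem rot1_41r : band (Rule.ok (2 * 3) EX RL ⟨1 :: [3, 2, 1, 3, 1, 3, 1, 2, 1, 3, 2, 1, 2, 3, 2, 1, 3, 2, 1, 3, 2, 1, 3, 2], [0, 2, 0, 4, 0, 4, 0, 2, 4, 0], 5, false⟩) (lall (memL L) [3, 2, 1, 3, 1, 3, 1, 2, 1, 3, 2, 1, 2, 3, 2, 1, 3, 2, 1, 3, 2, 1, 3, 2]) = true := by decide +kernel

theorem rot1_42 : T.rot 1 [3, 1, 3, 1, 2, 1, 3, 2, 1, 2, 3, 2, 1, 3, 2, 1, 3, 2, 1, 3, 2, 1, 3, 2] (sel (ones 21504) ip1 42) = true := by decide +kernel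

theorem rot1_42r : band (Rule.ok (2 * 3) EX RL ⟨1 :: [3, 1, 3, 1, 2, 1, 3, 2, 1, 2, 3, 2, 1, 3, 2, 1, 3, 2, 1, 3, 2, 1, 3, 2], [0, 2, 0, 4, 0, 4, 0], 5, false⟩) (lall (memL L) [3, 1, 3, 1, 2, 1, 3, 2, 1, 2, 3, 2, 1, 3, 2, 1, 3, 2, 1, 3, 2, 1, 3, 2]) = true := by decide +kernel

theorem rot1_43 : T.rot 1 [3, 1, 2, 1, 3, 2, 1, 2, 3, 2, 1, 3, 2, 1, 3, 2, 1, 3, 2, 1, 3, 2, 1, 3] (sel (ones 21504) ip1 43) = true := by decide +kernel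

theorem rot1_43r : band (Rule.ok (2 * 3) EX RL ⟨1 :: [3, 1, 2, 1, 3, 2, 1, 2, 3, 2, 1, 3, 2, 1, 3, 2, 1, 3, 2, 1, 3, 2, 1, 3], [0, 2, 0, 4, 0], 5, false⟩) (lall (memL L) [3, 1, 2, 1, 3, 2, 1, 2, 3, 2, 1, 3, 2, 1, 3, 2, 1, 3, 2, 1, 3, 2, 1, 3]) = true := by decide +kernel

theorem rot1_44 : T.rot 1 [2, 1, 3, 2, 1, 2, 3, 2, 1, 3, 2, 1, 3, 2, 1, 3, 2, 1, 3, 2, 1, 3, 1, 3] (sel (ones 21504) ip1 44) = true := by decide +kernel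

theorem rot1_44r : band (Rule.ok (2 * 3) EX RL ⟨1 :: [2, 1, 3, 2, 1, 2, 3, 2, 1, 3, 2, 1, 3, 2, 1, 3, 2, 1, 3, 2, 1, 3, 1, 3], [0, 2, 0], 5, false⟩) (lall (memL L) [2, 1, 3, 2, 1, 2, 3, 2, 1, 3, 2, 1, 3, 2, 1, 3, 2, 1, 3, 2, 1, 3, 1, 3]) = true := by decide +kernel

theorem rot1_45 : T.rot 1 [3, 2, 1, 2, 3, 2, 1, 3, 2, 1, 3, 2, 1, 3, 2, 1, 3, 2, 1, 3, 1, 3, 1, 2] (sel (ones 21504) ip1 45) = true := by decide +kernel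

theorem rot1_45r : band (Rule.ok (2 * 3) EX RL ⟨1 :: [3, 2, 1, 2, 3, 2, 1, 3, 2, 1, 3, 2, 1, 3, 2, 1, 3, 2, 1, 3, 1, 3, 1, 2], [0], 5, false⟩) (lall (memL L) [3, 2, 1, 2, 3, 2, 1, 3, 2, 1, 3, 2, 1, 3, 2, 1, 3, 2, 1, 3, 1, 3, 1, 2]) = true := by decide +kernel

theorem cov1 : T.cover 1 [(sel (ones 21504) ip1 1), (sel (ones 21504) ip1 2), (sel (ones 21504) ip1 3), (sel (ones 21504) ip1 4), (sel (ones 21504) ip1 5), (sel (ones 21504) ip1 6), (sel (ones 21504) ip1 7), (sel (ones 21504) ip1 8), (sel (ones 21504) ip1 9), (sel (ones 21504) ip1 10), (sel (ones 21504) ip1 11), (sel (ones 21504) ip1 12), (sel (ones 21504) ip1 13), (sel (ones 21504) ip1 14), (sel (ones 21504) ip1 15), (sel (ones 21504) ip1 16), (sel (ones 21504) ip1 17), (sel (ones 21504) ip1 18), (sel (ones 21504) ip1 19),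 (sel (ones 21504) ip1 20), (sel (ones 21504) ip1 21), (sel (ones 21504) ip1 22), (sel (ones 21504) ip1 23), (sel (ones 21504) ip1 24), (sel (ones 21504) ip1 25), (sel (ones 21504) ip1 26), (sel (ones 21504) ip1 27), (sel (ones 21504) ip1 28), (sel (ones 21504) ip1 29), (sel (ones 21504) ip1 30), (sel (ones 21504) ip1 31), (sel (ones 21504) ip1 32), (sel (ones 21504) ip1 33), (sel (ones 21504) ip1 34), (sel (ones 21504) ip1 35), (sel (ones 21504) ip1 36), (sel (ones 21504) ip1 37), (sel (ones 21504) ip1 38), (sel (ones 21504) ip1 39), (sel (ones 21504) ip1 40), (sel (ones 21504) ip1 41), (sel (ones 21504) ip1 42), (sel (ones 21504) ip1 43), (sel (ones 21504) ip1 44), (sel (ones 21504) ip1 45)] = true := by decide +kernel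

theorem tl1 : T.treeLt 15 1 = true := by decide +kernel

theorem rot2_1 : T.rot 2 [2] (sel (ones 21504) ip2 1) = true := by decide +kernel

theorem rot2_1r : band (Rule.ok (2 * 3) EX RL ⟨2 :: [2], [], 6, false⟩) (lall (memL L) [2]) = true := by decide +kernel

theorem rot2_2 : T.rot 2 [1, 2, 1, 2, 1, 2, 1] (sel (ones 21504) ip2 2) = true := by decide +kernel

theorem rot2_2r : band (Rule.ok (2 * 3) EX RL ⟨2 :: [1, 2, 1, 2, 1, 2, 1], [], 0, true⟩) (lall (memL L) [1, 2, 1, 2, 1, 2, 1]) = true := by decide +kernel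

theorem rot2_3 : T.rot 2 [3, 2, 3, 2, 3, 2, 3] (sel (ones 21504) ip2 3) = true := by decide +kernel

theorem rot2_3r : band (Rule.ok (2 * 3) EX RL ⟨2 :: [3, 2, 3, 2, 3, 2, 3], [], 2, false⟩) (lall (memL L) [3, 2, 3, 2, 3, 2, 3]) = true := by decide +kernel

theorem rot2_4 : T.rot 2 [1, 2, 3, 1, 2, 1, 2, 3, 2, 1, 2, 1, 3, 1] (sel (ones 21504) ip2 4) = true := by decide +kernel

theorem rot2_4r : band (Rule.ok (2 * 3) EX RL ⟨2 :: [1, 2, 3, 1, 2, 1, 2, 3, 2, 1, 2, 1, 3, 1], [0], 3, true⟩) (lall (memL L) [1, 2, 3, 1, 2, 1, 2, 3, 2, 1, 2, 1, 3, 1]) = true := by decide +kernel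

theorem rot2_5 : T.rot 2 [3, 1, 2, 1, 2, 3, 2, 1, 2, 1, 3, 1, 2, 1] (sel (ones 21504) ip2 5) = true := by decide +kernel

theorem rot2_5r : band (Rule.ok (2 * 3) EX RL ⟨2 :: [3, 1, 2, 1, 2, 3, 2, 1, 2, 1, 3, 1, 2, 1], [0, 2, 0], 3, true⟩) (lall (memL L) [3, 1, 2, 1, 2, 3, 2, 1, 2, 1, 3, 1, 2, 1]) = true := by decide +kernel

theorem rot2_6 : T.rot 2 [1, 2, 3, 2, 1, 2, 1, 3, 1, 2, 1, 2, 3, 1] (sel (ones 21504) ip2 6) = true := by decide +kernel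

theorem rot2_6r : band (Rule.ok (2 * 3) EX RL ⟨2 :: [1, 2, 3, 2, 1, 2, 1, 3, 1, 2, 1, 2, 3, 1], [0, 2, 0, 2, 4, 0], 3, true⟩) (lall (memL L) [1, 2, 3, 2, 1, 2, 1, 3, 1, 2, 1, 2, 3, 1]) = true := by decide +kernel

theorem rot2_7 : T.rot 2 [3, 2, 1, 2, 1, 3, 1, 2, 1, 2, 3, 1, 2, 1] (sel (ones 21504) ip2 7) = true := by decide +kernel

theorem rot2_7r : band (Rule.ok (2 * 3) EX RL ⟨2 :: [3, 2, 1, 2, 1, 3, 1, 2, 1, 2, 3, 1, 2, 1], [4, 0, 2, 0, 2, 4, 2], 3, true⟩) (lall (memL L) [3, 2, 1, 2, 1, 3, 1, 2, 1, 2, 3, 1, 2, 1]) = true := by decide +kernel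

theorem rot2_8 : T.rot 2 [1, 2, 1, 3, 1, 2, 1, 2, 3, 1, 2, 1, 2, 3] (sel (ones 21504) ip2 8) = true := by decide +kernel

theorem rot2_8r : band (Rule.ok (2 * 3) EX RL ⟨2 :: [1, 2, 1, 3, 1, 2, 1, 2, 3, 1, 2, 1, 2, 3], [4, 0, 2, 0, 2], 3, true⟩) (lall (memL L) [1, 2, 1, 3, 1, 2, 1, 2, 3, 1, 2, 1, 2, 3]) = true := by decide +kernel

theorem rot2_9 : T.rot 2 [1, 3, 1, 2, 1, 2, 3, 1, 2, 1, 2, 3, 2, 1] (sel (ones 21504) ip2 9) = true := by decide +kernel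

theorem rot2_9r : band (Rule.ok (2 * 3) EX RL ⟨2 :: [1, 3, 1, 2, 1, 2, 3, 1, 2, 1, 2, 3, 2, 1], [4, 0, 2], 3, true⟩) (lall (memL L) [1, 3, 1, 2, 1, 2, 3, 1, 2, 1, 2, 3, 2, 1]) = true := by decide +kernel

theorem rot2_10 : T.rot 2 [1, 2, 3, 2, 1, 2, 1, 3, 2, 1, 2, 1, 3, 1] (sel (ones 21504) ip2 10) = true := by decide +kernel

theorem rot2_10r : band (Rule.ok (2 * 3) EX RL ⟨2 :: [1, 2, 3, 2, 1, 2, 1, 3, 2, 1, 2, 1, 3, 1], [4, 0], 3, false⟩) (lall (memL L) [1, 2, 3, 2, 1, 2, 1, 3, 2, 1, 2, 1, 3, 1]) = true := by decide +kernel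

theorem rot2_11 : T.rot 2 [3, 2, 1, 2, 1, 3, 2, 1, 2, 1, 3, 1, 2, 1] (sel (ones 21504) ip2 11) = true := by decide +kernel

theorem rot2_11r : band (Rule.ok (2 * 3) EX RL ⟨2 :: [3, 2, 1, 2, 1, 3, 2, 1, 2, 1, 3, 1, 2, 1], [4, 0, 2, 0], 3, false⟩) (lall (memL L) [3, 2, 1, 2, 1, 3, 2, 1, 2, 1, 3, 1, 2, 1]) = true := by decide +kernel

theorem rot2_12 : T.rot 2 [1, 2, 1, 3, 2, 1, 2, 1, 3, 1, 2, 1, 2, 3] (sel (ones 21504) ip2 12) = true := by decide +kernel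

theorem rot2_12r : band (Rule.ok (2 * 3) EX RL ⟨2 :: [1, 2, 1, 3, 2, 1, 2, 1, 3, 1, 2, 1, 2, 3], [4, 0, 2, 0, 2, 4], 3, false⟩) (lall (memL L) [1, 2, 1, 3, 2, 1, 2, 1, 3, 1, 2, 1, 2, 3]) = true := by decide +kernel

theorem rot2_13 : T.rot 2 [1, 3, 2, 1, 2, 1, 3, 1, 2, 1, 2, 3, 2, 1] (sel (ones 21504) ip2 13) = true := by decide +kernel

theorem rot2_13r : band (Rule.ok (2 * 3) EX RL ⟨2 :: [1, 3, 2, 1, 2, 1, 3, 1, 2, 1, 2, 3, 2, 1], [0, 2, 0, 2, 4, 0, 2], 3, false⟩) (lall (memL L) [1, 3, 2, 1, 2, 1, 3, 1, 2, 1, 2, 3, 2, 1]) = true := by decide +kernel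

theorem rot2_14 : T.rot 2 [1, 2, 1, 3, 1, 2, 1, 2, 3, 2, 1, 2, 1, 3] (sel (ones 21504) ip2 14) = true := by decide +kernel

theorem rot2_14r : band (Rule.ok (2 * 3) EX RL ⟨2 :: [1, 2, 1, 3, 1, 2, 1, 2, 3, 2, 1, 2, 1, 3], [0, 2, 0, 2], 3, false⟩) (lall (memL L) [1, 2, 1, 3, 1, 2, 1, 2, 3, 2, 1, 2, 1, 3]) = true := by decide +kernel

theorem rot2_15 : T.rot 2 [1, 3, 1, 2, 1, 2, 3, 2, 1, 2, 1, 3, 2, 1] (sel (ones 21504) ip2 15) = true := by decide +kernel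

theorem rot2_15r : band (Rule.ok (2 * 3) EX RL ⟨2 :: [1, 3, 1, 2, 1, 2, 3, 2, 1, 2, 1, 3, 2, 1], [0, 2], 3, false⟩) (lall (memL L) [1, 3, 1, 2, 1, 2, 3, 2, 1, 2, 1, 3, 2, 1]) = true := by decide +kernel

theorem rot2_16 : T.rot 2 [3, 1, 2, 3, 2, 3, 1, 3, 1, 2, 3, 2, 3, 1, 3, 2, 1, 3, 2, 3, 1] (sel (ones 21504) ip2 16) = true := by decide +kernel

theorem rot2_16r : band (Rule.ok (2 * 3) EX RL ⟨2 :: [3, 1, 2, 3, 2, 3, 1, 3, 1, 2, 3, 2, 3, 1, 3, 2, 1, 3, 2, 3, 1], [0], 4, true⟩) (lall (memL L) [3, 1, 2, 3, 2, 3, 1, 3, 1, 2, 3, 2, 3, 1, 3, 2, 1, 3, 2, 3, 1]) = true := by decide +kernel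

theorem rot2_17 : T.rot 2 [3, 2, 3, 1, 3, 1, 2, 3, 2, 3, 1, 3, 2, 1, 3, 2, 3, 1, 2, 3, 1] (sel (ones 21504) ip2 17) = true := by decide +kernel

theorem rot2_17r : band (Rule.ok (2 * 3) EX RL ⟨2 :: [3, 2, 3, 1, 3, 1, 2, 3, 2, 3, 1, 3, 2, 1, 3, 2, 3, 1, 2, 3, 1], [0, 2, 4, 0], 4, true⟩) (lall (memL L) [3, 2, 3, 1, 3, 1, 2, 3, 2, 3, 1, 3, 2, 1, 3, 2, 3, 1, 2, 3, 1]) = true := by decide +kernel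

theorem rot2_18 : T.rot 2 [3, 1, 3, 1, 2, 3, 2, 3, 1, 3, 2, 1, 3, 2, 3, 1, 2, 3, 1, 2, 3] (sel (ones 21504) ip2 18) = true := by decide +kernel

theorem rot2_18r : band (Rule.ok (2 * 3) EX RL ⟨2 :: [3, 1, 3, 1, 2, 3, 2, 3, 1, 3, 2, 1, 3, 2, 3, 1, 2, 3, 1, 2, 3], [0, 2, 4, 0, 2, 4], 4, true⟩) (lall (memL L) [3, 1, 3, 1, 2, 3, 2, 3, 1, 3, 2, 1, 3, 2, 3, 1, 2, 3, 1, 2, 3]) = true := by decide +kernel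

theorem rot2_19 : T.rot 2 [3, 2, 3, 1, 3, 2, 1, 3, 2, 3, 1, 2, 3, 1, 2, 3, 2, 3, 1, 3, 1] (sel (ones 21504) ip2 19) = true := by decide +kernel

theorem rot2_19r : band (Rule.ok (2 * 3) EX RL ⟨2 :: [3, 2, 3, 1, 3, 2, 1, 3, 2, 3, 1, 2, 3, 1, 2, 3, 2, 3, 1, 3, 1], [4, 2, 4, 0, 2, 4, 0, 4, 2, 4, 2], 4, true⟩) (lall (memL L) [3, 2, 3, 1, 3, 2, 1, 3, 2, 3, 1, 2, 3, 1, 2, 3, 2, 3, 1, 3, 1]) = true := by decide +kernel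

theorem rot2_20 : T.rot 2 [3, 1, 3, 2, 1, 3, 2, 3, 1, 2, 3, 1, 2, 3, 2, 3, 1, 3, 1, 2, 3] (sel (ones 21504) ip2 20) = true := by decide +kernel

theorem rot2_20r : band (Rule.ok (2 * 3) EX RL ⟨2 :: [3, 1, 3, 2, 1, 3, 2, 3, 1, 2, 3, 1, 2, 3, 2, 3, 1, 3, 1, 2, 3], [4, 2, 4, 0, 2, 4, 0, 4, 2], 4, true⟩) (lall (memL L) [3, 1, 3, 2, 1, 3, 2, 3, 1, 2, 3, 1, 2, 3, 2, 3, 1, 3, 1, 2, 3]) = true := by decide +kernel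

theorem rot2_21 : T.rot 2 [1, 3, 2, 3, 1, 2, 3, 1, 2, 3, 2, 3, 1, 3, 1, 2, 3, 2, 3, 1, 3] (sel (ones 21504) ip2 21) = true := by decide +kernel

theorem rot2_21r : band (Rule.ok (2 * 3) EX RL ⟨2 :: [1, 3, 2, 3, 1, 2, 3, 1, 2, 3, 2, 3, 1, 3, 1, 2, 3, 2, 3, 1, 3], [4, 2, 4, 0, 2], 4, true⟩) (lall (memL L) [1, 3, 2, 3, 1, 2, 3, 1, 2, 3, 2, 3, 1, 3, 1, 2, 3, 2, 3, 1, 3]) = true := by decide +kernel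

theorem rot2_22 : T.rot 2 [3, 1, 2, 3, 1, 2, 3, 2, 3, 1, 3, 1, 2, 3, 2, 3, 1, 3, 2, 1, 3] (sel (ones 21504) ip2 22) = true := by decide +kernel

theorem rot2_22r : band (Rule.ok (2 * 3) EX RL ⟨2 :: [3, 1, 2, 3, 1, 2, 3, 2, 3, 1, 3, 1, 2, 3, 2, 3, 1, 3, 2, 1, 3], [4, 2], 4, true⟩) (lall (memL L) [3, 1, 2, 3, 1, 2, 3, 2, 3, 1, 3, 1, 2, 3, 2, 3, 1, 3, 2, 1, 3]) = true := by decide +kernel

theorem rot2_23 : T.rot 2 [3, 1, 2, 3, 1, 3, 2, 3, 2, 1, 3, 1, 3, 2, 3, 2, 1, 3, 2, 1, 3] (sel (ones 21504) ip2 23) = true := by decide +kernel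

theorem rot2_23r : band (Rule.ok (2 * 3) EX RL ⟨2 :: [3, 1, 2, 3, 1, 3, 2, 3, 2, 1, 3, 1, 3, 2, 3, 2, 1, 3, 2, 1, 3], [4], 4, false⟩) (lall (memL L) [3, 1, 2, 3, 1, 3, 2, 3, 2, 1, 3, 1, 3, 2, 3, 2, 1, 3, 2, 1, 3]) = true := by decide +kernel

theorem rot2_24 : T.rot 2 [3, 1, 3, 2, 3, 2, 1, 3, 1, 3, 2, 3, 2, 1, 3, 2, 1, 3, 2, 3, 1] (sel (ones 21504) ip2 24) = true := by decide +kernel

theorem rot2_24r : band (Rule.ok (2 * 3) EX RL ⟨2 :: [3, 1, 3, 2, 3, 2, 1, 3, 1, 3, 2, 3, 2, 1, 3, 2, 1, 3, 2, 3, 1], [4, 2, 4, 0], 4, false⟩) (lall (memL L) [3, 1, 3, 2, 3, 2, 1, 3, 1, 3, 2, 3, 2, 1, 3, 2, 1, 3, 2, 3, 1]) = true := by decide +kernel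

theorem rot2_25 : T.rot 2 [3, 2, 1, 3, 1, 3, 2, 3, 2, 1, 3, 2, 1, 3, 2, 3, 1, 2, 3, 1, 3] (sel (ones 21504) ip2 25) = true := by decide +kernel

theorem rot2_25r : band (Rule.ok (2 * 3) EX RL ⟨2 :: [3, 2, 1, 3, 1, 3, 2, 3, 2, 1, 3, 2, 1, 3, 2, 3, 1, 2, 3, 1, 3], [4, 2, 4, 0, 2, 4, 0, 4], 4, false⟩) (lall (memL L) [3, 2, 1, 3, 1, 3, 2, 3, 2, 1, 3, 2, 1, 3, 2, 3, 1, 2, 3, 1, 3]) = true := by decide +kernel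

theorem rot2_26 : T.rot 2 [1, 3, 1, 3, 2, 3, 2, 1, 3, 2, 1, 3, 2, 3, 1, 2, 3, 1, 3, 2, 3] (sel (ones 21504) ip2 26) = true := by decide +kernel

theorem rot2_26r : band (Rule.ok (2 * 3) EX RL ⟨2 :: [1, 3, 1, 3, 2, 3, 2, 1, 3, 2, 1, 3, 2, 3, 1, 2, 3, 1, 3, 2, 3], [4, 2, 4, 0, 2, 4, 0, 4, 2, 4], 4, false⟩) (lall (memL L) [1, 3, 1, 3, 2, 3, 2, 1, 3, 2, 1, 3, 2, 3, 1, 2, 3, 1, 3, 2, 3]) = true := by decide +kernel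

theorem rot2_27 : T.rot 2 [3, 2, 1, 3, 2, 1, 3, 2, 3, 1, 2, 3, 1, 3, 2, 3, 2, 1, 3, 1, 3] (sel (ones 21504) ip2 27) = true := by decide +kernel

theorem rot2_27r : band (Rule.ok (2 * 3) EX RL ⟨2 :: [3, 2, 1, 3, 2, 1, 3, 2, 3, 1, 2, 3, 1, 3, 2, 3, 2, 1, 3, 1, 3], [0, 2, 4, 0, 2, 4, 2], 4, false⟩) (lall (memL L) [3, 2, 1, 3, 2, 1, 3, 2, 3, 1, 2, 3, 1, 3, 2, 3, 2, 1, 3, 1, 3]) = true := by decide +kernel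

theorem rot2_28 : T.rot 2 [1, 3, 2, 1, 3, 2, 3, 1, 2, 3, 1, 3, 2, 3, 2, 1, 3, 1, 3, 2, 3] (sel (ones 21504) ip2 28) = true := by decide +kernel

theorem rot2_28r : band (Rule.ok (2 * 3) EX RL ⟨2 :: [1, 3, 2, 1, 3, 2, 3, 1, 2, 3, 1, 3, 2, 3, 2, 1, 3, 1, 3, 2, 3], [0, 2, 4, 0, 2], 4, false⟩) (lall (memL L) [1, 3, 2, 1, 3, 2, 3, 1, 2, 3, 1, 3, 2, 3, 2, 1, 3, 1, 3, 2, 3]) = true := by decide +kernel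

theorem rot2_29 : T.rot 2 [1, 3, 2, 3, 1, 2, 3, 1, 3, 2, 3, 2, 1, 3, 1, 3, 2, 3, 2, 1, 3] (sel (ones 21504) ip2 29) = true := by decide +kernel

theorem rot2_29r : band (Rule.ok (2 * 3) EX RL ⟨2 :: [1, 3, 2, 3, 1, 2, 3, 1, 3, 2, 3, 2, 1, 3, 1, 3, 2, 3, 2, 1, 3], [0, 2], 4, false⟩) (lall (memL L) [1, 3, 2, 3, 1, 2, 3, 1, 3, 2, 3, 2, 1, 3, 1, 3, 2, 3, 2, 1, 3]) = true := by decide +kernel

theorem rot2_30 : T.rot 2 [1, 3, 1, 3, 1, 2, 3, 1, 2, 3, 1, 2, 3, 1, 2, 3, 1, 2, 3, 2, 1, 2, 3, 1] (sel (ones 21504) ip2 30) = true := by decide +kernel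

theorem rot2_30r : band (Rule.ok (2 * 3) EX RL ⟨2 :: [1, 3, 1, 3, 1, 2, 3, 1, 2, 3, 1, 2, 3, 1, 2, 3, 1, 2, 3, 2, 1, 2, 3, 1], [0], 5, true⟩) (lall (memL L) [1, 3, 1, 3, 1, 2, 3, 1, 2, 3, 1, 2, 3, 1, 2, 3, 1, 2, 3, 2, 1, 2, 3, 1]) = true := by decide +kernel

theorem rot2_31 : T.rot 2 [3, 1, 2, 3, 1, 2, 3, 1, 2, 3, 1, 2, 3, 2, 1, 2, 3, 1, 2, 1, 3, 1, 3, 1] (sel (ones 21504) ip2 31) = true := by decide +kernel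

theorem rot2_31r : band (Rule.ok (2 * 3) EX RL ⟨2 :: [3, 1, 2, 3, 1, 2, 3, 1, 2, 3, 1, 2, 3, 2, 1, 2, 3, 1, 2, 1, 3, 1, 3, 1], [0, 2, 0, 4, 0, 4, 0], 5, true⟩) (lall (memL L) [3, 1, 2, 3, 1, 2, 3, 1, 2, 3, 1, 2, 3, 2, 1, 2, 3, 1, 2, 1, 3, 1, 3, 1]) = true := by decide +kernel

theorem rot2_32 : T.rot 2 [3, 1, 2, 3, 1, 2, 3, 1, 2, 3, 2, 1, 2, 3, 1, 2, 1, 3, 1, 3, 1, 2, 3, 1] (sel (ones 21504) ip2 32) = true := by decide +kernel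

theorem rot2_32r : band (Rule.ok (2 * 3) EX RL ⟨2 :: [3, 1, 2, 3, 1, 2, 3, 1, 2, 3, 2, 1, 2, 3, 1, 2, 1, 3, 1, 3, 1, 2, 3, 1], [0, 2, 0, 4, 0, 4, 0, 2, 4, 0], 5, true⟩) (lall (memL L) [3, 1, 2, 3, 1, 2, 3, 1, 2, 3, 2, 1, 2, 3, 1, 2, 1, 3, 1, 3, 1, 2, 3, 1]) = true := by decide +kernel

theorem rot2_33 : T.rot 2 [3, 1, 2, 3, 1, 2, 3, 2, 1, 2, 3, 1, 2, 1, 3, 1, 3, 1, 2, 3, 1, 2, 3, 1] (sel (ones 21504) ip2 33) = true := by decide +kernel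

theorem rot2_33r : band (Rule.ok (2 * 3) EX RL ⟨2 :: [3, 1, 2, 3, 1, 2, 3, 2, 1, 2, 3, 1, 2, 1, 3, 1, 3, 1, 2, 3, 1, 2, 3, 1], [4, 2, 0, 2, 4, 2, 0, 4, 2, 0, 4, 2], 5, true⟩) (lall (memL L) [3, 1, 2, 3, 1, 2, 3, 2, 1, 2, 3, 1, 2, 1, 3, 1, 3, 1, 2, 3, 1, 2, 3, 1]) = true := by decide +kernel

theorem rot2_34 : T.rot 2 [3, 1, 2, 3, 2, 1, 2, 3, 1, 2, 1, 3, 1, 3, 1, 2, 3, 1, 2, 3, 1, 2, 3, 1] (sel (ones 21504) ip2 34) = true := by decide +kernel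

theorem rot2_34r : band (Rule.ok (2 * 3) EX RL ⟨2 :: [3, 1, 2, 3, 2, 1, 2, 3, 1, 2, 1, 3, 1, 3, 1, 2, 3, 1, 2, 3, 1, 2, 3, 1], [4, 2, 0, 2, 4, 2, 0, 4, 2], 5, true⟩) (lall (memL L) [3, 1, 2, 3, 2, 1, 2, 3, 1, 2, 1, 3, 1, 3, 1, 2, 3, 1, 2, 3, 1, 2, 3, 1]) = true := by decide +kernel

theorem rot2_35 : T.rot 2 [3, 2, 1, 2, 3, 1, 2, 1, 3, 1, 3, 1, 2, 3, 1, 2, 3, 1, 2, 3, 1, 2, 3, 1] (sel (ones 21504) ip2 35) = true := by decide +kernel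

theorem rot2_35r : band (Rule.ok (2 * 3) EX RL ⟨2 :: [3, 2, 1, 2, 3, 1, 2, 1, 3, 1, 3, 1, 2, 3, 1, 2, 3, 1, 2, 3, 1, 2, 3, 1], [4, 2, 0, 2, 4, 2], 5, true⟩) (lall (memL L) [3, 2, 1, 2, 3, 1, 2, 1, 3, 1, 3, 1, 2, 3, 1, 2, 3, 1, 2, 3, 1, 2, 3, 1]) = true := by decide +kernel

theorem rot2_36 : T.rot 2 [1, 2, 3, 1, 2, 1, 3, 1, 3, 1, 2, 3, 1, 2, 3, 1, 2, 3, 1, 2, 3, 1, 2, 3] (sel (ones 21504) ip2 36) = true := by decide +kernel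

theorem rot2_36r : band (Rule.ok (2 * 3) EX RL ⟨2 :: [1, 2, 3, 1, 2, 1, 3, 1, 3, 1, 2, 3, 1, 2, 3, 1, 2, 3, 1, 2, 3, 1, 2, 3], [4, 2, 0, 2], 5, true⟩) (lall (memL L) [1, 2, 3, 1, 2, 1, 3, 1, 3, 1, 2, 3, 1, 2, 3, 1, 2, 3, 1, 2, 3, 1, 2, 3]) = true := by decide +kernel

theorem rot2_37 : T.rot 2 [3, 1, 2, 1, 3, 1, 3, 1, 2, 3, 1, 2, 3, 1, 2, 3, 1, 2, 3, 1, 2, 3, 2, 1] (sel (ones 21504) ip2 37) = true := by decide +kernel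

theorem rot2_37r : band (Rule.ok (2 * 3) EX RL ⟨2 :: [3, 1, 2, 1, 3, 1, 3, 1, 2, 3, 1, 2, 3, 1, 2, 3, 1, 2, 3, 1, 2, 3, 2, 1], [4, 2], 5, true⟩) (lall (memL L) [3, 1, 2, 1, 3, 1, 3, 1, 2, 3, 1, 2, 3, 1, 2, 3, 1, 2, 3, 1, 2, 3, 2, 1]) = true := by decide +kernel

theorem rot2_38 : T.rot 2 [1, 2, 3, 2, 1, 3, 2, 1, 3, 2, 1, 3, 2, 1, 3, 2, 1, 3, 1, 3, 1, 2, 1, 3] (sel (ones 21504) ip2 38) = true := by decide +kernel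

theorem rot2_38r : band (Rule.ok (2 * 3) EX RL ⟨2 :: [1, 2, 3, 2, 1, 3, 2, 1, 3, 2, 1, 3, 2, 1, 3, 2, 1, 3, 1, 3, 1, 2, 1, 3], [4], 5, false⟩) (lall (memL L) [1, 2, 3, 2, 1, 3, 2, 1, 3, 2, 1, 3, 2, 1, 3, 2, 1, 3, 1, 3, 1, 2, 1, 3]) = true := by decide +kernel

theorem rot2_39 : T.rot 2 [3, 2, 1, 3, 2, 1, 3, 2, 1, 3, 2, 1, 3, 2, 1, 3, 1, 3, 1, 2, 1, 3, 2, 1] (sel (ones 21504) ip2 39) = true := by decide +kernel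

theorem rot2_39r : band (Rule.ok (2 * 3) EX RL ⟨2 :: [3, 2, 1, 3, 2, 1, 3, 2, 1, 3, 2, 1, 3, 2, 1, 3, 1, 3, 1, 2, 1, 3, 2, 1], [4, 2, 0], 5, false⟩) (lall (memL L) [3, 2, 1, 3, 2, 1, 3, 2, 1, 3, 2, 1, 3, 2, 1, 3, 1, 3, 1, 2, 1, 3, 2, 1]) = true := by decide +kernel

theorem rot2_40 : T.rot 2 [1, 3, 2, 1, 3, 2, 1, 3, 2, 1, 3, 2, 1, 3, 1, 3, 1, 2, 1, 3, 2, 1, 2, 3] (sel (ones 21504) ip2 40) = true := by decide +kernel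

theorem rot2_40r : band (Rule.ok (2 * 3) EX RL ⟨2 :: [1, 3, 2, 1, 3, 2, 1, 3, 2, 1, 3, 2, 1, 3, 1, 3, 1, 2, 1, 3, 2, 1, 2, 3], [4, 2, 0, 2, 4], 5, false⟩) (lall (memL L) [1, 3, 2, 1, 3, 2, 1, 3, 2, 1, 3, 2, 1, 3, 1, 3, 1, 2, 1, 3, 2, 1, 2, 3]) = true := by decide +kernel

theorem rot2_41 : T.rot 2 [1, 3, 2, 1, 3, 2, 1, 3, 2, 1, 3, 1, 3, 1, 2, 1, 3, 2, 1, 2, 3, 2, 1, 3] (sel (ones 21504) ip2 41) = true := by decide +kernel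

theorem rot2_41r : band (Rule.ok (2 * 3) EX RL ⟨2 :: [1, 3, 2, 1, 3, 2, 1, 3, 2, 1, 3, 1, 3, 1, 2, 1, 3, 2, 1, 2, 3, 2, 1, 3], [4, 2, 0, 2, 4, 2, 0, 4], 5, false⟩) (lall (memL L) [1, 3, 2, 1, 3, 2, 1, 3, 2, 1, 3, 1, 3, 1, 2, 1, 3, 2, 1, 2, 3, 2, 1, 3]) = true := by decide +kernel

theorem rot2_42 : T.rot 2 [1, 3, 2, 1, 3, 2, 1, 3, 1, 3, 1, 2, 1, 3, 2, 1, 2, 3, 2, 1, 3, 2, 1, 3] (sel (ones 21504) ip2 42) = true := by decide +kernel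

theorem rot2_42r : band (Rule.ok (2 * 3) EX RL ⟨2 :: [1, 3, 2, 1, 3, 2, 1, 3, 1, 3, 1, 2, 1, 3, 2, 1, 2, 3, 2, 1, 3, 2, 1, 3], [4, 2, 0, 2, 4, 2, 0, 4, 2, 0, 4], 5, false⟩) (lall (memL L) [1, 3, 2, 1, 3, 2, 1, 3, 1, 3, 1, 2, 1, 3, 2, 1, 2, 3, 2, 1, 3, 2, 1, 3]) = true := by decide +kernel

theorem rot2_43 : T.rot 2 [1, 3, 2, 1, 3, 1, 3, 1, 2, 1, 3, 2, 1, 2, 3, 2, 1, 3, 2, 1, 3, 2, 1, 3] (sel (ones 21504) ip2 43) = true := by decide +kernel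

theorem rot2_43r : band (Rule.ok (2 * 3) EX RL ⟨2 :: [1, 3, 2, 1, 3, 1, 3, 1, 2, 1, 3, 2, 1, 2, 3, 2, 1, 3, 2, 1, 3, 2, 1, 3], [0, 2, 0, 4, 0, 4, 0, 2, 4, 0, 2], 5, false⟩) (lall (memL L) [1, 3, 2, 1, 3, 1, 3, 1, 2, 1, 3, 2, 1, 2, 3, 2, 1, 3, 2, 1, 3, 2, 1, 3]) = true := by decide +kernel

theorem rot2_44 : T.rot 2 [1, 3, 1, 3, 1, 2, 1, 3, 2, 1, 2, 3, 2, 1, 3, 2, 1, 3, 2, 1, 3, 2, 1, 3] (sel (ones 21504) ip2 44) = true := by decide +kernel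

theorem rot2_44r : band (Rule.ok (2 * 3) EX RL ⟨2 :: [1, 3, 1, 3, 1, 2, 1, 3, 2, 1, 2, 3, 2, 1, 3, 2, 1, 3, 2, 1, 3, 2, 1, 3], [0, 2, 0, 4, 0, 4, 0, 2], 5, false⟩) (lall (memL L) [1, 3, 1, 3, 1, 2, 1, 3, 2, 1, 2, 3, 2, 1, 3, 2, 1, 3, 2, 1, 3, 2, 1, 3]) = true := by decide +kernel

theorem rot2_45 : T.rot 2 [1, 3, 2, 1, 2, 3, 2, 1, 3, 2, 1, 3, 2, 1, 3, 2, 1, 3, 2, 1, 3, 1, 3, 1] (sel (ones 21504) ip2 45) = true := by decide +kernel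

theorem rot2_45r : band (Rule.ok (2 * 3) EX RL ⟨2 :: [1, 3, 2, 1, 2, 3, 2, 1, 3, 2, 1, 3, 2, 1, 3, 2, 1, 3, 2, 1, 3, 1, 3, 1], [0, 2], 5, false⟩) (lall (memL L) [1, 3, 2, 1, 2, 3, 2, 1, 3, 2, 1, 3, 2, 1, 3, 2, 1, 3, 2, 1, 3, 1, 3, 1]) = true := by decide +kernel

theorem cov2 : T.cover 2 [(sel (ones 21504) ip2 1), (sel (ones 21504) ip2 2), (sel (ones 21504) ip2 3), (sel (ones 21504) ip2 4), (sel (ones 21504) ip2 5), (sel (ones 21504) ip2 6), (sel (ones 21504) ip2 7), (sel (ones 21504) ip2 8), (sel (ones 21504) ip2 9), (sel (ones 21504) ip2 10), (sel (ones 21504) ip2 11), (sel (ones 21504) ip2 12), (sel (ones 21504) ip2 13), (sel (ones 21504) ip2 14), (sel (ones 21504) ip2 15), (sel (ones 21504) ip2 16), (sel (ones 21504) ip2 17), (sel (ones 21504) ip2 18), (sel (ones 21504) ip2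 19), (sel (ones 21504) ip2 20), (sel (ones 21504) ip2 21), (sel (ones 21504) ip2 22), (sel (ones 21504) ip2 23), (sel (ones 21504) ip2 24), (sel (ones 21504) ip2 25), (sel (ones 21504) ip2 26), (sel (ones 21504) ip2 27), (sel (ones 21504) ip2 28), (sel (ones 21504) ip2 29), (sel (ones 21504) ip2 30), (sel (ones 21504) ip2 31), (sel (ones 21504) ip2 32), (sel (ones 21504) ip2 33), (sel (ones 21504) ip2 34), (sel (ones 21504) ip2 35), (sel (ones 21504) ip2 36), (sel (ones 21504) ip2 37), (sel (ones 21504) ip2 38), (sel (ones 21504) ip2 39), (sel (ones 21504) ip2 40), (sel (ones 21504) ip2 41), (sel (ones 21504) ip2 42), (sel (ones 21504) ip2 43), (sel (ones 21504) ip2 44), (sel (ones 21504) ip2 45)] = true := by decide +kernel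

theorem tl2 : T.treeLt 15 2 = true := by decide +kernel

theorem rot3_1 : T.rot 3 [3] (sel (ones 21504) ip3 1) = true := by decide +kernel

theorem rot3_1r : band (Rule.ok (2 * 3) EX RL ⟨3 :: [3], [], 6, false⟩) (lall (memL L) [3]) = true := by decide +kernel

theorem rot3_2 : T.rot 3 [2, 3, 2, 3, 2, 3, 2] (sel (ones 21504) ip3 2) = true := by decide +kernel

theorem rot3_2r : band (Rule.ok (2 * 3) EX RL ⟨3 :: [2, 3, 2, 3, 2, 3, 2], [], 2, true⟩) (lall (memL L) [2, 3, 2, 3, 2, 3, 2]) = true := by decide +kernel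

theorem rot3_3 : T.rot 3 [1, 3, 1, 3, 1, 3, 1, 3, 1, 3, 1] (sel (ones 21504) ip3 3) = true := by decide +kernel

theorem rot3_3r : band (Rule.ok (2 * 3) EX RL ⟨3 :: [1, 3, 1, 3, 1, 3, 1, 3, 1, 3, 1], [], 1, true⟩) (lall (memL L) [1, 3, 1, 3, 1, 3, 1, 3, 1, 3, 1]) = true := by decide +kernel

theorem rot3_4 : T.rot 3 [1, 2, 1, 2, 3, 2, 1, 2, 1, 3, 1, 2, 1, 2] (sel (ones 21504) ip3 4) = true := by decide +kernel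

theorem rot3_4r : band (Rule.ok (2 * 3) EX RL ⟨3 :: [1, 2, 1, 2, 3, 2, 1, 2, 1, 3, 1, 2, 1, 2], [0, 2, 0, 2], 3, true⟩) (lall (memL L) [1, 2, 1, 2, 3, 2, 1, 2, 1, 3, 1, 2, 1, 2]) = true := by decide +kernel

theorem rot3_5 : T.rot 3 [2, 1, 2, 1, 3, 1, 2, 1, 2, 3, 1, 2, 1, 2] (sel (ones 21504) ip3 5) = true := by decide +kernel

theorem rot3_5r : band (Rule.ok (2 * 3) EX RL ⟨3 :: [2, 1, 2, 1, 3, 1, 2, 1, 2, 3, 1, 2, 1, 2], [4, 0, 2, 0, 2, 4], 3, true⟩) (lall (memL L) [2, 1, 2, 1, 3, 1, 2, 1, 2, 3, 1, 2, 1, 2]) = true := by decide +kernel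

theorem rot3_6 : T.rot 3 [1, 2, 1, 2, 3, 1, 2, 1, 2, 3, 2, 1, 2, 1] (sel (ones 21504) ip3 6) = true := by decide +kernel

theorem rot3_6r : band (Rule.ok (2 * 3) EX RL ⟨3 :: [1, 2, 1, 2, 3, 1, 2, 1, 2, 3, 2, 1, 2, 1], [4], 3, true⟩) (lall (memL L) [1, 2, 1, 2, 3, 1, 2, 1, 2, 3, 2, 1, 2, 1]) = true := by decide +kernel

theorem rot3_7 : T.rot 3 [1, 2, 1, 2, 3, 2, 1, 2, 1, 3, 2, 1, 2, 1] (sel (ones 21504) ip3 7) = true := by decide +kernel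

theorem rot3_7r : band (Rule.ok (2 * 3) EX RL ⟨3 :: [1, 2, 1, 2, 3, 2, 1, 2, 1, 3, 2, 1, 2, 1], [], 3, false⟩) (lall (memL L) [1, 2, 1, 2, 3, 2, 1, 2, 1, 3, 2, 1, 2, 1]) = true := by decide +kernel

theorem rot3_8 : T.rot 3 [2, 1, 2, 1, 3, 2, 1, 2, 1, 3, 1, 2, 1, 2] (sel (ones 21504) ip3 8) = true := by decide +kernel

theorem rot3_8r : band (Rule.ok (2 * 3) EX RL ⟨3 :: [2, 1, 2, 1, 3, 2, 1, 2, 1, 3, 1, 2, 1, 2], [4, 0, 2, 0, 2], 3, false⟩) (lall (memL L) [2, 1, 2, 1, 3, 2, 1, 2, 1, 3, 1, 2, 1, 2]) = true := by decide +kernel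

theorem rot3_9 : T.rot 3 [2, 1, 2, 1, 3, 1, 2, 1, 2, 3, 2, 1, 2, 1] (sel (ones 21504) ip3 9) = true := by decide +kernel

theorem rot3_9r : band (Rule.ok (2 * 3) EX RL ⟨3 :: [2, 1, 2, 1, 3, 1, 2, 1, 2, 3, 2, 1, 2, 1], [0, 2, 0, 2, 4], 3, false⟩) (lall (memL L) [2, 1, 2, 1, 3, 1, 2, 1, 2, 3, 2, 1, 2, 1]) = true := by decide +kernel

theorem rot3_10 : T.rot 3 [1, 2, 3, 2, 3, 1, 3, 1, 2, 3, 2, 3, 1, 3, 2, 1, 3, 2, 3, 1, 2] (sel (ones 21504) ip3 10) = true := by decide +kernel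

theorem rot3_10r : band (Rule.ok (2 * 3) EX RL ⟨3 :: [1, 2, 3, 2, 3, 1, 3, 1, 2, 3, 2, 3, 1, 3, 2, 1, 3, 2, 3, 1, 2], [0, 2], 4, true⟩) (lall (memL L) [1, 2, 3, 2, 3, 1, 3, 1, 2, 3, 2, 3, 1, 3, 2, 1, 3, 2, 3, 1, 2]) = true := by decide +kernel

theorem rot3_11 : T.rot 3 [2, 3, 1, 3, 1, 2, 3, 2, 3, 1, 3, 2, 1, 3, 2, 3, 1, 2, 3, 1, 2] (sel (ones 21504) ip3 11) = true := by decide +kernel

theorem rot3_11r : band (Rule.ok (2 * 3) EX RL ⟨3 :: [2, 3, 1, 3, 1, 2, 3, 2, 3, 1, 3, 2, 1, 3, 2, 3, 1, 2, 3, 1, 2], [0, 2, 4, 0, 2], 4, true⟩) (lall (memL L) [2, 3, 1, 3, 1, 2, 3, 2, 3, 1, 3, 2, 1, 3, 2, 3, 1, 2, 3, 1, 2]) = true := by decide +kernel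

theorem rot3_12 : T.rot 3 [1, 3, 1, 2, 3, 2, 3, 1, 3, 2, 1, 3, 2, 3, 1, 2, 3, 1, 2, 3, 2] (sel (ones 21504) ip3 12) = true := by decide +kernel

theorem rot3_12r : band (Rule.ok (2 * 3) EX RL ⟨3 :: [1, 3, 1, 2, 3, 2, 3, 1, 3, 2, 1, 3, 2, 3, 1, 2, 3, 1, 2, 3, 2], [0, 2, 4, 0, 2, 4, 2], 4, true⟩) (lall (memL L) [1, 3, 1, 2, 3, 2, 3, 1, 3, 2, 1, 3, 2, 3, 1, 2, 3, 1, 2, 3, 2]) = true := by decide +kernel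

theorem rot3_13 : T.rot 3 [1, 2, 3, 2, 3, 1, 3, 2, 1, 3, 2, 3, 1, 2, 3, 1, 2, 3, 2, 3, 1] (sel (ones 21504) ip3 13) = true := by decide +kernel

theorem rot3_13r : band (Rule.ok (2 * 3) EX RL ⟨3 :: [1, 2, 3, 2, 3, 1, 3, 2, 1, 3, 2, 3, 1, 2, 3, 1, 2, 3, 2, 3, 1], [0, 2, 4, 0, 2, 4, 2, 4, 0], 4, true⟩) (lall (memL L) [1, 2, 3, 2, 3, 1, 3, 2, 1, 3, 2, 3, 1, 2, 3, 1, 2, 3, 2, 3, 1]) = true := by decide +kernel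

theorem rot3_14 : T.rot 3 [2, 3, 1, 3, 2, 1, 3, 2, 3, 1, 2, 3, 1, 2, 3, 2, 3, 1, 3, 1, 2] (sel (ones 21504) ip3 14) = true := by decide +kernel

theorem rot3_14r : band (Rule.ok (2 * 3) EX RL ⟨3 :: [2, 3, 1, 3, 2, 1, 3, 2, 3, 1, 2, 3, 1, 2, 3, 2, 3, 1, 3, 1, 2], [4, 2, 4, 0, 2, 4, 0, 4, 2, 4], 4, true⟩) (lall (memL L) [2, 3, 1, 3, 2, 1, 3, 2, 3, 1, 2, 3, 1, 2, 3, 2, 3, 1, 3, 1, 2]) = true := by decide +kernel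

theorem rot3_15 : T.rot 3 [1, 3, 2, 1, 3, 2, 3, 1, 2, 3, 1, 2, 3, 2, 3, 1, 3, 1, 2, 3, 2] (sel (ones 21504) ip3 15) = true := by decide +kernel

theorem rot3_15r : band (Rule.ok (2 * 3) EX RL ⟨3 :: [1, 3, 2, 1, 3, 2, 3, 1, 2, 3, 1, 2, 3, 2, 3, 1, 3, 1, 2, 3, 2], [4, 2, 4, 0, 2, 4, 0, 4], 4, true⟩) (lall (memL L) [1, 3, 2, 1, 3, 2, 3, 1, 2, 3, 1, 2, 3, 2, 3, 1, 3, 1, 2, 3, 2]) = true := by decide +kernel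

theorem rot3_16 : T.rot 3 [2, 1, 3, 2, 3, 1, 2, 3, 1, 2, 3, 2, 3, 1, 3, 1, 2, 3, 2, 3, 1] (sel (ones 21504) ip3 16) = true := by decide +kernel

theorem rot3_16r : band (Rule.ok (2 * 3) EX RL ⟨3 :: [2, 1, 3, 2, 3, 1, 2, 3, 1, 2, 3, 2, 3, 1, 3, 1, 2, 3, 2, 3, 1], [4, 2, 4, 0, 2, 4], 4, true⟩) (lall (memL L) [2, 1, 3, 2, 3, 1, 2, 3, 1, 2, 3, 2, 3, 1, 3, 1, 2, 3, 2, 3, 1]) = true := by decide +kernel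

theorem rot3_17 : T.rot 3 [2, 3, 1, 2, 3, 1, 2, 3, 2, 3, 1, 3, 1, 2, 3, 2, 3, 1, 3, 2, 1] (sel (ones 21504) ip3 17) = true := by decide +kernel

theorem rot3_17r : band (Rule.ok (2 * 3) EX RL ⟨3 :: [2, 3, 1, 2, 3, 1, 2, 3, 2, 3, 1, 3, 1, 2, 3, 2, 3, 1, 3, 2, 1], [4, 2, 4], 4, true⟩) (lall (memL L) [2, 3, 1, 2, 3, 1, 2, 3, 2, 3, 1, 3, 1, 2, 3, 2, 3, 1, 3, 2, 1]) = true := by decide +kernel

theorem rot3_18 : T.rot 3 [1, 2, 3, 1, 2, 3, 2, 3, 1, 3, 1, 2, 3, 2, 3, 1, 3, 2, 1, 3, 2] (sel (ones 21504) ip3 18) = true := by decide +kernel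

theorem rot3_18r : band (Rule.ok (2 * 3) EX RL ⟨3 :: [1, 2, 3, 1, 2, 3, 2, 3, 1, 3, 1, 2, 3, 2, 3, 1, 3, 2, 1, 3, 2], [4], 4, true⟩) (lall (memL L) [1, 2, 3, 1, 2, 3, 2, 3, 1, 3, 1, 2, 3, 2, 3, 1, 3, 2, 1, 3, 2]) = true := by decide +kernel

theorem rot3_19 : T.rot 3 [2, 3, 1, 2, 3, 1, 3, 2, 3, 2, 1, 3, 1, 3, 2, 3, 2, 1, 3, 2, 1] (sel (ones 21504) ip3 19) = true := by decide +kernel

theorem rot3_19r : band (Rule.ok (2 * 3) EX RL ⟨3 :: [2, 3, 1, 2, 3, 1, 3, 2, 3, 2, 1, 3, 1, 3, 2, 3, 2, 1, 3, 2, 1], [], 4, false⟩) (lall (memL L) [2, 3, 1, 2, 3, 1, 3, 2, 3, 2, 1, 3, 1, 3, 2, 3, 2, 1, 3, 2, 1]) = true := by decide +kernel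

theorem rot3_20 : T.rot 3 [1, 2, 3, 1, 3, 2, 3, 2, 1, 3, 1, 3, 2, 3, 2, 1, 3, 2, 1, 3, 2] (sel (ones 21504) ip3 20) = true := by decide +kernel

theorem rot3_20r : band (Rule.ok (2 * 3) EX RL ⟨3 :: [1, 2, 3, 1, 3, 2, 3, 2, 1, 3, 1, 3, 2, 3, 2, 1, 3, 2, 1, 3, 2], [4, 2], 4, false⟩) (lall (memL L) [1, 2, 3, 1, 3, 2, 3, 2, 1, 3, 1, 3, 2, 3, 2, 1, 3, 2, 1, 3, 2]) = true := by decide +kernel

theorem rot3_21 : T.rot 3 [1, 3, 2, 3, 2, 1, 3, 1, 3, 2, 3, 2, 1, 3, 2, 1, 3, 2, 3, 1, 2] (sel (ones 21504) ip3 21) = true := by decide +kernel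

theorem rot3_21r : band (Rule.ok (2 * 3) EX RL ⟨3 :: [1, 3, 2, 3, 2, 1, 3, 1, 3, 2, 3, 2, 1, 3, 2, 1, 3, 2, 3, 1, 2], [4, 2, 4, 0, 2], 4, false⟩) (lall (memL L) [1, 3, 2, 3, 2, 1, 3, 1, 3, 2, 3, 2, 1, 3, 2, 1, 3, 2, 3, 1, 2]) = true := by decide +kernel

theorem rot3_22 : T.rot 3 [2, 3, 2, 1, 3, 1, 3, 2, 3, 2, 1, 3, 2, 1, 3, 2, 3, 1, 2, 3, 1] (sel (ones 21504) ip3 22) = true := by decide +kernel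

theorem rot3_22r : band (Rule.ok (2 * 3) EX RL ⟨3 :: [2, 3, 2, 1, 3, 1, 3, 2, 3, 2, 1, 3, 2, 1, 3, 2, 3, 1, 2, 3, 1], [4, 2, 4, 0, 2, 4, 0], 4, false⟩) (lall (memL L) [2, 3, 2, 1, 3, 1, 3, 2, 3, 2, 1, 3, 2, 1, 3, 2, 3, 1, 2, 3, 1]) = true := by decide +kernel

theorem rot3_23 : T.rot 3 [2, 1, 3, 1, 3, 2, 3, 2, 1, 3, 2, 1, 3, 2, 3, 1, 2, 3, 1, 3, 2] (sel (ones 21504) ip3 23) = true := by decide +kernel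

theorem rot3_23r : band (Rule.ok (2 * 3) EX RL ⟨3 :: [2, 1, 3, 1, 3, 2, 3, 2, 1, 3, 2, 1, 3, 2, 3, 1, 2, 3, 1, 3, 2], [4, 2, 4, 0, 2, 4, 0, 4, 2], 4, false⟩) (lall (memL L) [2, 1, 3, 1, 3, 2, 3, 2, 1, 3, 2, 1, 3, 2, 3, 1, 2, 3, 1, 3, 2]) = true := by decide +kernel

theorem rot3_24 : T.rot 3 [1, 3, 2, 3, 2, 1, 3, 2, 1, 3, 2, 3, 1, 2, 3, 1, 3, 2, 3, 2, 1] (sel (ones 21504) ip3 24) = true := by decide +kernel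

theorem rot3_24r : band (Rule.ok (2 * 3) EX RL ⟨3 :: [1, 3, 2, 3, 2, 1, 3, 2, 1, 3, 2, 3, 1, 2, 3, 1, 3, 2, 3, 2, 1], [0, 2, 4, 0, 2, 4, 2, 4, 0, 4], 4, false⟩) (lall (memL L) [1, 3, 2, 3, 2, 1, 3, 2, 1, 3, 2, 3, 1, 2, 3, 1, 3, 2, 3, 2, 1]) = true := by decide +kernel

theorem rot3_25 : T.rot 3 [2, 3, 2, 1, 3, 2, 1, 3, 2, 3, 1, 2, 3, 1, 3, 2, 3, 2, 1, 3, 1] (sel (ones 21504) ip3 25) = true := by decide +kernel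

theorem rot3_25r : band (Rule.ok (2 * 3) EX RL ⟨3 :: [2, 3, 2, 1, 3, 2, 1, 3, 2, 3, 1, 2, 3, 1, 3, 2, 3, 2, 1, 3, 1], [0, 2, 4, 0, 2, 4, 2, 4], 4, false⟩) (lall (memL L) [2, 3, 2, 1, 3, 2, 1, 3, 2, 3, 1, 2, 3, 1, 3, 2, 3, 2, 1, 3, 1]) = true := by decide +kernel

theorem rot3_26 : T.rot 3 [2, 1, 3, 2, 1, 3, 2, 3, 1, 2, 3, 1, 3, 2, 3, 2, 1, 3, 1, 3, 2] (sel (ones 21504) ip3 26) = true := by decide +kernel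

theorem rot3_26r : band (Rule.ok (2 * 3) EX RL ⟨3 :: [2, 1, 3, 2, 1, 3, 2, 3, 1, 2, 3, 1, 3, 2, 3, 2, 1, 3, 1, 3, 2], [0, 2, 4, 0, 2, 4], 4, false⟩) (lall (memL L) [2, 1, 3, 2, 1, 3, 2, 3, 1, 2, 3, 1, 3, 2, 3, 2, 1, 3, 1, 3, 2]) = true := by decide +kernel

theorem rot3_27 : T.rot 3 [2, 1, 3, 2, 3, 1, 2, 3, 1, 3, 2, 3, 2, 1, 3, 1, 3, 2, 3, 2, 1] (sel (ones 21504) ip3 27) = true := by decide +kernel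

theorem rot3_27r : band (Rule.ok (2 * 3) EX RL ⟨3 :: [2, 1, 3, 2, 3, 1, 2, 3, 1, 3, 2, 3, 2, 1, 3, 1, 3, 2, 3, 2, 1], [0, 2, 4], 4, false⟩) (lall (memL L) [2, 1, 3, 2, 3, 1, 2, 3, 1, 3, 2, 3, 2, 1, 3, 1, 3, 2, 3, 2, 1]) = true := by decide +kernel

theorem rot3_28 : T.rot 3 [1, 3, 1, 2, 3, 1, 2, 3, 1, 2, 3, 1, 2, 3, 1, 2, 3, 2, 1, 2, 3, 1, 2, 1] (sel (ones 21504) ip3 28) = true := by decide +kernel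

theorem rot3_28r : band (Rule.ok (2 * 3) EX RL ⟨3 :: [1, 3, 1, 2, 3, 1, 2, 3, 1, 2, 3, 1, 2, 3, 1, 2, 3, 2, 1, 2, 3, 1, 2, 1], [0, 2, 0], 5, true⟩) (lall (memL L) [1, 3, 1, 2, 3, 1, 2, 3, 1, 2, 3, 1, 2, 3, 1, 2, 3, 2, 1, 2, 3, 1, 2, 1]) = true := by decide +kernel

theorem rot3_29 : T.rot 3 [1, 2, 3, 1, 2, 3, 1, 2, 3, 1, 2, 3, 1, 2, 3, 2, 1, 2, 3, 1, 2, 1, 3, 1] (sel (ones 21504) ip3 29) = true := by decide +kernel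

theorem rot3_29r : band (Rule.ok (2 * 3) EX RL ⟨3 :: [1, 2, 3, 1, 2, 3, 1, 2, 3, 1, 2, 3, 1, 2, 3, 2, 1, 2, 3, 1, 2, 1, 3, 1], [0, 2, 0, 4, 0], 5, true⟩) (lall (memL L) [1, 2, 3, 1, 2, 3, 1, 2, 3, 1, 2, 3, 1, 2, 3, 2, 1, 2, 3, 1, 2, 1, 3, 1]) = true := by decide +kernel

theorem rot3_30 : T.rot 3 [1, 2, 3, 1, 2, 3, 1, 2, 3, 1, 2, 3, 2, 1, 2, 3, 1, 2, 1, 3, 1, 3, 1, 2] (sel (ones 21504) ip3 30) = true := by decide +kernel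

theorem rot3_30r : band (Rule.ok (2 * 3) EX RL ⟨3 :: [1, 2, 3, 1, 2, 3, 1, 2, 3, 1, 2, 3, 2, 1, 2, 3, 1, 2, 1, 3, 1, 3, 1, 2], [0, 2, 0, 4, 0, 4, 0, 2], 5, true⟩) (lall (memL L) [1, 2, 3, 1, 2, 3, 1, 2, 3, 1, 2, 3, 2, 1, 2, 3, 1, 2, 1, 3, 1, 3, 1, 2]) = true := by decide +kernel

theorem rot3_31 : T.rot 3 [1, 2, 3, 1, 2, 3, 1, 2, 3, 2, 1, 2, 3, 1, 2, 1, 3, 1, 3, 1, 2, 3, 1, 2] (sel (ones 21504) ip3 31) = true := by decide +kernel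

theorem rot3_31r : band (Rule.ok (2 * 3) EX RL ⟨3 :: [1, 2, 3, 1, 2, 3, 1, 2, 3, 2, 1, 2, 3, 1, 2, 1, 3, 1, 3, 1, 2, 3, 1, 2], [0, 2, 0, 4, 0, 4, 0, 2, 4, 0, 2], 5, true⟩) (lall (memL L) [1, 2, 3, 1, 2, 3, 1, 2, 3, 2, 1, 2, 3, 1, 2, 1, 3, 1, 3, 1, 2, 3, 1, 2]) = true := by decide +kernel

theorem rot3_32 : T.rot 3 [1, 2, 3, 1, 2, 3, 2, 1, 2, 3, 1, 2, 1, 3, 1, 3, 1, 2, 3, 1, 2, 3, 1, 2] (sel (ones 21504) ip3 32) = true := by decide +kernel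

theorem rot3_32r : band (Rule.ok (2 * 3) EX RL ⟨3 :: [1, 2, 3, 1, 2, 3, 2, 1, 2, 3, 1, 2, 1, 3, 1, 3, 1, 2, 3, 1, 2, 3, 1, 2], [4, 2, 0, 2, 4, 2, 0, 4, 2, 0, 4], 5, true⟩) (lall (memL L) [1, 2, 3, 1, 2, 3, 2, 1, 2, 3, 1, 2, 1, 3, 1, 3, 1, 2, 3, 1, 2, 3, 1, 2]) = true := by decide +kernel

theorem rot3_33 : T.rot 3 [1, 2, 3, 2, 1, 2, 3, 1, 2, 1, 3, 1, 3, 1, 2, 3, 1, 2, 3, 1, 2, 3, 1, 2] (sel (ones 21504) ip3 33) = true := by decide +kernel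

theorem rot3_33r : band (Rule.ok (2 * 3) EX RL ⟨3 :: [1, 2, 3, 2, 1, 2, 3, 1, 2, 1, 3, 1, 3, 1, 2, 3, 1, 2, 3, 1, 2, 3, 1, 2], [4, 2, 0, 2, 4, 2, 0, 4], 5, true⟩) (lall (memL L) [1, 2, 3, 2, 1, 2, 3, 1, 2, 1, 3, 1, 3, 1, 2, 3, 1, 2, 3, 1, 2, 3, 1, 2]) = true := by decide +kernel

theorem rot3_34 : T.rot 3 [2, 1, 2, 3, 1, 2, 1, 3, 1, 3, 1, 2, 3, 1, 2, 3, 1, 2, 3, 1, 2, 3, 1, 2] (sel (ones 21504) ip3 34) = true := by decide +kernel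

theorem rot3_34r : band (Rule.ok (2 * 3) EX RL ⟨3 :: [2, 1, 2, 3, 1, 2, 1, 3, 1, 3, 1, 2, 3, 1, 2, 3, 1, 2, 3, 1, 2, 3, 1, 2], [4, 2, 0, 2, 4], 5, true⟩) (lall (memL L) [2, 1, 2, 3, 1, 2, 1, 3, 1, 3, 1, 2, 3, 1, 2, 3, 1, 2, 3, 1, 2, 3, 1, 2]) = true := by decide +kernel

theorem rot3_35 : T.rot 3 [1, 2, 1, 3, 1, 3, 1, 2, 3, 1, 2, 3, 1, 2, 3, 1, 2, 3, 1, 2, 3, 2, 1, 2] (sel (ones 21504) ip3 35) = true := by decide +kernel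

theorem rot3_35r : band (Rule.ok (2 * 3) EX RL ⟨3 :: [1, 2, 1, 3, 1, 3, 1, 2, 3, 1, 2, 3, 1, 2, 3, 1, 2, 3, 1, 2, 3, 2, 1, 2], [4], 5, true⟩) (lall (memL L) [1, 2, 1, 3, 1, 3, 1, 2, 3, 1, 2, 3, 1, 2, 3, 1, 2, 3, 1, 2, 3, 2, 1, 2]) = true := by decide +kernel

theorem rot3_36 : T.rot 3 [2, 1, 2, 3, 2, 1, 3, 2, 1, 3, 2, 1, 3, 2, 1, 3, 2, 1, 3, 1, 3, 1, 2, 1] (sel (ones 21504) ip3 36) = true := by decide +kernel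

theorem rot3_36r : band (Rule.ok (2 * 3) EX RL ⟨3 :: [2, 1, 2, 3, 2, 1, 3, 2, 1, 3, 2, 1, 3, 2, 1, 3, 2, 1, 3, 1, 3, 1, 2, 1], [], 5, false⟩) (lall (memL L) [2, 1, 2, 3, 2, 1, 3, 2, 1, 3, 2, 1, 3, 2, 1, 3, 2, 1, 3, 1, 3, 1, 2, 1]) = true := by decide +kernel

theorem rot3_37 : T.rot 3 [2, 1, 3, 2, 1, 3, 2, 1, 3, 2, 1, 3, 2, 1, 3, 1, 3, 1, 2, 1, 3, 2, 1, 2] (sel (ones 21504) ip3 37) = true := by decide +kernel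

theorem rot3_37r : band (Rule.ok (2 * 3) EX RL ⟨3 :: [2, 1, 3, 2, 1, 3, 2, 1, 3, 2, 1, 3, 2, 1, 3, 1, 3, 1, 2, 1, 3, 2, 1, 2], [4, 2, 0, 2], 5, false⟩) (lall (memL L) [2, 1, 3, 2, 1, 3, 2, 1, 3, 2, 1, 3, 2, 1, 3, 1, 3, 1, 2, 1, 3, 2, 1, 2]) = true := by decide +kernel

theorem rot3_38 : T.rot 3 [2, 1, 3, 2, 1, 3, 2, 1, 3, 2, 1, 3, 1, 3, 1, 2, 1, 3, 2, 1, 2, 3, 2, 1] (sel (ones 21504) ip3 38) = true := by decide +kernel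

theorem rot3_38r : band (Rule.ok (2 * 3) EX RL ⟨3 :: [2, 1, 3, 2, 1, 3, 2, 1, 3, 2, 1, 3, 1, 3, 1, 2, 1, 3, 2, 1, 2, 3, 2, 1], [4, 2, 0, 2, 4, 2, 0], 5, false⟩) (lall (memL L) [2, 1, 3, 2, 1, 3, 2, 1, 3, 2, 1, 3, 1, 3, 1, 2, 1, 3, 2, 1, 2, 3, 2, 1]) = true := by decide +kernel

theorem rot3_39 : T.rot 3 [2, 1, 3, 2, 1, 3, 2, 1, 3, 1, 3, 1, 2, 1, 3, 2, 1, 2, 3, 2, 1, 3, 2, 1] (sel (ones 21504) ip3 39) = true := by decide +kernel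

theorem rot3_39r : band (Rule.ok (2 * 3) EX RL ⟨3 :: [2, 1, 3, 2, 1, 3, 2, 1, 3, 1, 3, 1, 2, 1, 3, 2, 1, 2, 3, 2, 1, 3, 2, 1], [4, 2, 0, 2, 4, 2, 0, 4, 2, 0], 5, false⟩) (lall (memL L) [2, 1, 3, 2, 1, 3, 2, 1, 3, 1, 3, 1, 2, 1, 3, 2, 1, 2, 3, 2, 1, 3, 2, 1]) = true := by decide +kernel

theorem rot3_40 : T.rot 3 [2, 1, 3, 2, 1, 3, 1, 3, 1, 2, 1, 3, 2, 1, 2, 3, 2, 1, 3, 2, 1, 3, 2, 1] (sel (ones 21504) ip3 40) = true := by decide +kernel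

theorem rot3_40r : band (Rule.ok (2 * 3) EX RL ⟨3 :: [2, 1, 3, 2, 1, 3, 1, 3, 1, 2, 1, 3, 2, 1, 2, 3, 2, 1, 3, 2, 1, 3, 2, 1], [0, 2, 0, 4, 0, 4, 0, 2, 4, 0, 2, 4], 5, false⟩) (lall (memL L) [2, 1, 3, 2, 1, 3, 1, 3, 1, 2, 1, 3, 2, 1, 2, 3, 2, 1, 3, 2, 1, 3, 2, 1]) = true := by decide +kernel

theorem rot3_41 : T.rot 3 [2, 1, 3, 1, 3, 1, 2, 1, 3, 2, 1, 2, 3, 2, 1, 3, 2, 1, 3, 2, 1, 3, 2, 1] (sel (ones 21504) ip3 41) = true := by decide +kernel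

theorem rot3_41r : band (Rule.ok (2 * 3) EX RL ⟨3 :: [2, 1, 3, 1, 3, 1, 2, 1, 3, 2, 1, 2, 3, 2, 1, 3, 2, 1, 3, 2, 1, 3, 2, 1], [0, 2, 0, 4, 0, 4, 0, 2, 4], 5, false⟩) (lall (memL L) [2, 1, 3, 1, 3, 1, 2, 1, 3, 2, 1, 2, 3, 2, 1, 3, 2, 1, 3, 2, 1, 3, 2, 1]) = true := by decide +kernel

theorem rot3_42 : T.rot 3 [1, 3, 1, 2, 1, 3, 2, 1, 2, 3, 2, 1, 3, 2, 1, 3, 2, 1, 3, 2, 1, 3, 2, 1] (sel (ones 21504) ip3 42) = true := by decide +kernel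

theorem rot3_42r : band (Rule.ok (2 * 3) EX RL ⟨3 :: [1, 3, 1, 2, 1, 3, 2, 1, 2, 3, 2, 1, 3, 2, 1, 3, 2, 1, 3, 2, 1, 3, 2, 1], [0, 2, 0, 4, 0, 4], 5, false⟩) (lall (memL L) [1, 3, 1, 2, 1, 3, 2, 1, 2, 3, 2, 1, 3, 2, 1, 3, 2, 1, 3, 2, 1, 3, 2, 1]) = true := by decide +kernel

theorem rot3_43 : T.rot 3 [1, 2, 1, 3, 2, 1, 2, 3, 2, 1, 3, 2, 1, 3, 2, 1, 3, 2, 1, 3, 2, 1, 3, 1] (sel (ones 21504) ip3 43) = true := by decide +kernel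

theorem rot3_43r : band (Rule.ok (2 * 3) EX RL ⟨3 :: [1, 2, 1, 3, 2, 1, 2, 3, 2, 1, 3, 2, 1, 3, 2, 1, 3, 2, 1, 3, 2, 1, 3, 1], [0, 2, 0, 4], 5, false⟩) (lall (memL L) [1, 2, 1, 3, 2, 1, 2, 3, 2, 1, 3, 2, 1, 3, 2, 1, 3, 2, 1, 3, 2, 1, 3, 1]) = true := by decide +kernel

theorem cov3 : T.cover 3 [(sel (ones 21504) ip3 1), (sel (ones 21504) ip3 2), (sel (ones 21504) ip3 3), (sel (ones 21504) ip3 4), (sel (ones 21504) ip3 5), (sel (ones 21504) ip3 6), (sel (ones 21504) ip3 7), (sel (ones 21504) ip3 8), (sel (ones 21504) ip3 9), (sel (ones 21504) ip3 10), (sel (ones 21504) ip3 11), (sel (ones 21504) ip3 12), (sel (ones 21504) ip3 13), (sel (ones 21504) ip3 14), (sel (ones 21504) ip3 15), (sel (ones 21504) ip3 16), (sel (ones 21504) ip3 17), (sel (ones 21504) ip3 18), (sel (ones 21504)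 ip3 19), (sel (ones 21504) ip3 20), (sel (ones 21504) ip3 21), (sel (ones 21504) ip3 22), (sel (ones 21504) ip3 23), (sel (ones 21504) ip3 24), (sel (ones 21504) ip3 25), (sel (ones 21504) ip3 26), (sel (ones 21504) ip3 27), (sel (ones 21504) ip3 28), (sel (ones 21504) ip3 29), (sel (ones 21504) ip3 30), (sel (ones 21504) ip3 31), (sel (ones 21504) ip3 32), (sel (ones 21504) ip3 33), (sel (ones 21504) ip3 34), (sel (ones 21504) ip3 35), (sel (ones 21504) ip3 36), (sel (ones 21504) ip3 37), (sel (ones 21504) ip3 38), (sel (ones 21504) ip3 39), (sel (ones 21504) ip3 40), (sel (ones 21504) ip3 41), (sel (ones 21504) ip3 42), (sel (ones 21504) ip3 43)] = true := by decide +kernel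

theorem tl3 : T.treeLt 15 3 = true := by decide +kernel

end Cfsg.Agent.Spor.C3F
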