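import Cfsg.Agent.Spor.Cert
import Cfsg.Agent.Spor.C3F.C0

set_option autoImplicit false
set_option maxRecDepth 100000000
set_option Elab.async false
set_option linter.unusedSectionVars false

namespace Cfsg.Agent.Spor.C3F

theorem hT : T.Ok 15 := T.ok_of 15 (show AllP (fun n => Net.okb 15 n = true) [n0, n1, n2] from AllP.cons ok0 (AllP.cons ok1 (AllP.cons ok2 (AllP.nil))))

noncomputable def fP : ℕ → Equiv.Perm ℕ := T.fP gs

theorem hsq : ∀ j < 3, j < 3 → T.fP gs j * T.fP gs j = 1 :=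
  Tab.sq (show AllP (fun z => evA T.τ [z, z] = 1) [1, 2, 3] from AllP.cons (hT.one rel0) (AllP.cons (hT.one rel1) (AllP.cons (hT.one rel2) (AllP.nil)))) 3 rfl

theorem hiv : IvOk (2 * 3) (atm 3 (T.fP gs)) := ivOk_atm hsq

theorem pz1 : PZ T (atm 3 (T.fP gs)) EX 1 := PZ.of_atom (y := 2 * 0) (by decide +kernel) (atm_two_mul _ (by decide))
theorem pz2 : PZ T (atm 3 (T.fP gs)) EX 2 := PZ.of_atom (y := 2 * 1) (by decide +kernel) (atm_two_mul _ (by decide))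
theorem pz3 : PZ T (atm 3 (T.fP gs)) EX 3 := PZ.of_atom (y := 2 * 2) (by decide +kernel) (atm_two_mul _ (by decide))
theorem hPZ : AllP (PZ T (atm 3 (T.fP gs)) EX) L :=
  show AllP (PZ T (atm 3 (T.fP gs)) EX) [1, 2, 3] from AllP.cons pz1 (AllP.cons pz2 (AllP.cons pz3 (AllP.nil)))

theorem hrel : ∀ l ∈ RL, ev (atm 3 (T.fP gs)) l = 1 :=
  relAll_sound hiv (W := [[2, 1, 2, 1, 2, 1, 2, 1], [3, 1, 3, 1, 3, 1, 3, 1, 3, 1, 3, 1], [3, 2, 3, 2, 3, 2, 3, 2], [1, 2, 1, 2, 3, 1, 2, 1, 2, 3, 2, 1, 2, 1, 3], [1, 2, 3, 1, 2, 3, 2, 3, 1, 3, 1, 2, 3, 2, 3, 1, 3, 2, 1, 3, 2, 3], [1, 2, 1, 3, 1, 3, 1, 2, 3, 1, 2, 3, 1, 2, 3, 1, 2, 3, 1, 2, 3, 2, 1, 2, 3]]) (rules := [⟨[2, 1, 2, 1, 2, 1, 2, 1], [], 0, true⟩, ⟨[3, 1, 3, 1, 3, 1, 3, 1, 3, 1, 3, 1], [], 1, true⟩, ⟨[3, 2, 3, 2, 3, 2, 3, 2], [], 2, true⟩, ⟨[1, 2, 1, 2, 3, 1, 2, 1, 2, 3, 2, 1, 2, 1, 3], [], 3, true⟩, ⟨[1, 2, 3, 1, 2, 3, 2,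 3, 1, 3, 1, 2, 3, 2, 3, 1, 3, 2, 1, 3, 2, 3], [], 4, true⟩, ⟨[1, 2, 1, 3, 1, 3, 1, 2, 3, 1, 2, 3, 1, 2, 3, 1, 2, 3, 1, 2, 3, 2, 1, 2, 3], [], 5, true⟩]) hPZ (AllP.cons (hT.one rel3) (AllP.cons (hT.one rel4) (AllP.cons (hT.one rel5) (AllP.cons (hT.one rel6) (AllP.cons (hT.one rel7) (AllP.cons (hT.one rel8) (AllP.nil))))))) (by decide +kernel)

section
variable {G : Type} [Group G] {a : ℕ → G} (hi : IvOk (2 * 3) a) (hR : ∀ r ∈ RL, ev a r = 1)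
  {H : Subgroup G} (hb : ∀ z ∈ base, letV a EX z ∈ H)
include hi hR hb

theorem let1 : LetOk H (letV a EX) T L 1 :=
  LetOk.of hT tl1 cov1 (AllP.cons (Just.rot hT hi hR rot1_1 rot1_1r) (AllP.cons (Just.rot hT hi hR rot1_2 rot1_2r) (AllP.cons (Just.rot hT hi hR rot1_3 rot1_3r) (AllP.cons (Just.rot hT hi hR rot1_4 rot1_4r) (AllP.cons (Just.rot hT hi hR rot1_5 rot1_5r) (AllP.cons (Just.rot hT hi hR rot1_6 rot1_6r) (AllP.cons (Just.rot hT hi hR rot1_7 rot1_7r) (AllP.cons (Just.rot hT hi hR rot1_8 rot1_8r) (AllP.cons (Just.rot hT hi hR rot1_9 rot1_9r) (AllP.cons (Just.rot hT hi hR rot1_10 rot1_10r) (AllP.cons (Just.rot hT hi hR rot1_11 rot1_11r) (AllP.cons (Just.rot hT hi hR rot1_12 rot1_12r) (AllP.cons (Just.rot hT hi hR rot1_13 rot1_13r) (AllP.cons (Just.rot hT hi hR rot1_14 rot1_14r) (AllP.cons (Just.rot hT hi hR rot1_15 rot1_15r) (AllP.cons (Just.rot hT hi hR rot1_16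 rot1_16r) (AllP.cons (Just.rot hT hi hR rot1_17 rot1_17r) (AllP.cons (Just.rot hT hi hR rot1_18 rot1_18r) (AllP.cons (Just.rot hT hi hR rot1_19 rot1_19r) (AllP.cons (Just.rot hT hi hR rot1_20 rot1_20r) (AllP.cons (Just.rot hT hi hR rot1_21 rot1_21r) (AllP.cons (Just.rot hT hi hR rot1_22 rot1_22r) (AllP.cons (Just.rot hT hi hR rot1_23 rot1_23r) (AllP.cons (Just.rot hT hi hR rot1_24 rot1_24r) (AllP.cons (Just.rot hT hi hR rot1_25 rot1_25r) (AllP.cons (Just.rot hT hi hR rot1_26 rot1_26r) (AllP.cons (Just.rot hT hi hR rot1_27 rot1_27r) (AllP.cons (Just.rot hT hi hR rot1_28 rot1_28r) (AllP.cons (Just.rot hT hi hR rot1_29 rot1_29r) (AllP.cons (Just.rot hT hi hR rot1_30 rot1_30r) (AllP.cons (Just.rot hT hi hR rot1_31 rot1_31r) (AllP.cons (Just.rot hT hi hR rot1_32 rot1_32r) (AllP.cons (Just.rot hT hi hR rot1_33 rot1_33r) (AllP.cons (Just.rot hT hi hR rot1_34 rot1_34r) (AllP.cons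 (Just.rot hT hi hR rot1_35 rot1_35r) (AllP.cons (Just.rot hT hi hR rot1_36 rot1_36r) (AllP.cons (Just.rot hT hi hR rot1_37 rot1_37r) (AllP.cons (Just.rot hT hi hR rot1_38 rot1_38r) (AllP.cons (Just.rot hT hi hR rot1_39 rot1_39r) (AllP.cons (Just.rot hT hi hR rot1_40 rot1_40r) (AllP.cons (Just.rot hT hi hR rot1_41 rot1_41r) (AllP.cons (Just.rot hT hi hR rot1_42 rot1_42r) (AllP.cons (Just.rot hT hi hR rot1_43 rot1_43r) (AllP.cons (Just.rot hT hi hR rot1_44 rot1_44r) (AllP.cons (Just.rot hT hi hR rot1_45 rot1_45r) (AllP.nil))))))))))))))))))))))))))))))))))))))))))))))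
theorem let2 : LetOk H (letV a EX) T L 2 :=
  LetOk.of hT tl2 cov2 (AllP.cons (Just.rot hT hi hR rot2_1 rot2_1r) (AllP.cons (Just.rot hT hi hR rot2_2 rot2_2r) (AllP.cons (Just.rot hT hi hR rot2_3 rot2_3r) (AllP.cons (Just.rot hT hi hR rot2_4 rot2_4r) (AllP.cons (Just.rot hT hi hR rot2_5 rot2_5r) (AllP.cons (Just.rot hT hi hR rot2_6 rot2_6r) (AllP.cons (Just.rot hT hi hR rot2_7 rot2_7r) (AllP.cons (Just.rot hT hi hR rot2_8 rot2_8r) (AllP.cons (Just.rot hT hi hR rot2_9 rot2_9r) (AllP.cons (Just.rot hT hi hR rot2_10 rot2_10r) (AllP.cons (Just.rot hT hi hR rot2_11 rot2_11r) (AllP.cons (Just.rot hT hi hR rot2_12 rot2_12r) (AllP.cons (Just.rot hT hi hR rot2_13 rot2_13r) (AllP.cons (Just.rot hT hi hR rot2_14 rot2_14r) (AllP.cons (Just.rot hT hi hR rot2_15 rot2_15r) (AllP.cons (Just.rot hT hi hR rot2_16 rot2_16r) (AllP.cons (Just.rot hT hi hR rot2_17 rot2_17r) (AllP.cons (Just.rot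 hT hi hR rot2_18 rot2_18r) (AllP.cons (Just.rot hT hi hR rot2_19 rot2_19r) (AllP.cons (Just.rot hT hi hR rot2_20 rot2_20r) (AllP.cons (Just.rot hT hi hR rot2_21 rot2_21r) (AllP.cons (Just.rot hT hi hR rot2_22 rot2_22r) (AllP.cons (Just.rot hT hi hR rot2_23 rot2_23r) (AllP.cons (Just.rot hT hi hR rot2_24 rot2_24r) (AllP.cons (Just.rot hT hi hR rot2_25 rot2_25r) (AllP.cons (Just.rot hT hi hR rot2_26 rot2_26r) (AllP.cons (Just.rot hT hi hR rot2_27 rot2_27r) (AllP.cons (Just.rot hT hi hR rot2_28 rot2_28r) (AllP.cons (Just.rot hT hi hR rot2_29 rot2_29r) (AllP.cons (Just.rot hT hi hR rot2_30 rot2_30r) (AllP.cons (Just.rot hT hi hR rot2_31 rot2_31r) (AllP.cons (Just.rot hT hi hR rot2_32 rot2_32r) (AllP.cons (Just.rot hT hi hR rot2_33 rot2_33r) (AllP.cons (Just.rot hT hi hR rot2_34 rot2_34r) (AllP.cons (Just.rot hT hi hR rot2_35 rot2_35r) (AllP.cons (Just.rot hT hi hR rot2_36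 rot2_36r) (AllP.cons (Just.rot hT hi hR rot2_37 rot2_37r) (AllP.cons (Just.rot hT hi hR rot2_38 rot2_38r) (AllP.cons (Just.rot hT hi hR rot2_39 rot2_39r) (AllP.cons (Just.rot hT hi hR rot2_40 rot2_40r) (AllP.cons (Just.rot hT hi hR rot2_41 rot2_41r) (AllP.cons (Just.rot hT hi hR rot2_42 rot2_42r) (AllP.cons (Just.rot hT hi hR rot2_43 rot2_43r) (AllP.cons (Just.rot hT hi hR rot2_44 rot2_44r) (AllP.cons (Just.rot hT hi hR rot2_45 rot2_45r) (AllP.nil))))))))))))))))))))))))))))))))))))))))))))))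
theorem let3 : LetOk H (letV a EX) T L 3 :=
  LetOk.of hT tl3 cov3 (AllP.cons (Just.rot hT hi hR rot3_1 rot3_1r) (AllP.cons (Just.rot hT hi hR rot3_2 rot3_2r) (AllP.cons (Just.rot hT hi hR rot3_3 rot3_3r) (AllP.cons (Just.rot hT hi hR rot3_4 rot3_4r) (AllP.cons (Just.rot hT hi hR rot3_5 rot3_5r) (AllP.cons (Just.rot hT hi hR rot3_6 rot3_6r) (AllP.cons (Just.rot hT hi hR rot3_7 rot3_7r) (AllP.cons (Just.rot hT hi hR rot3_8 rot3_8r) (AllP.cons (Just.rot hT hi hR rot3_9 rot3_9r) (AllP.cons (Just.rot hT hi hR rot3_10 rot3_10r) (AllP.cons (Just.rot hT hi hR rot3_11 rot3_11r) (AllP.cons (Just.rot hT hi hR rot3_12 rot3_12r) (AllP.cons (Just.rot hT hi hR rot3_13 rot3_13r) (AllP.cons (Just.rot hT hi hR rot3_14 rot3_14r) (AllP.cons (Just.rot hT hi hR rot3_15 rot3_15r) (AllP.cons (Just.rot hT hi hR rot3_16 rot3_16r) (AllP.cons (Just.rot hT hi hR rot3_17 rot3_17r) (AllP.cons (Just.rot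 hT hi hR rot3_18 rot3_18r) (AllP.cons (Just.rot hT hi hR rot3_19 rot3_19r) (AllP.cons (Just.rot hT hi hR rot3_20 rot3_20r) (AllP.cons (Just.rot hT hi hR rot3_21 rot3_21r) (AllP.cons (Just.rot hT hi hR rot3_22 rot3_22r) (AllP.cons (Just.rot hT hi hR rot3_23 rot3_23r) (AllP.cons (Just.rot hT hi hR rot3_24 rot3_24r) (AllP.cons (Just.rot hT hi hR rot3_25 rot3_25r) (AllP.cons (Just.rot hT hi hR rot3_26 rot3_26r) (AllP.cons (Just.rot hT hi hR rot3_27 rot3_27r) (AllP.cons (Just.rot hT hi hR rot3_28 rot3_28r) (AllP.cons (Just.rot hT hi hR rot3_29 rot3_29r) (AllP.cons (Just.rot hT hi hR rot3_30 rot3_30r) (AllP.cons (Just.rot hT hi hR rot3_31 rot3_31r) (AllP.cons (Just.rot hT hi hR rot3_32 rot3_32r) (AllP.cons (Just.rot hT hi hR rot3_33 rot3_33r) (AllP.cons (Just.rot hT hi hR rot3_34 rot3_34r) (AllP.cons (Just.rot hT hi hR rot3_35 rot3_35r) (AllP.cons (Just.rot hT hi hR rot3_36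 rot3_36r) (AllP.cons (Just.rot hT hi hR rot3_37 rot3_37r) (AllP.cons (Just.rot hT hi hR rot3_38 rot3_38r) (AllP.cons (Just.rot hT hi hR rot3_39 rot3_39r) (AllP.cons (Just.rot hT hi hR rot3_40 rot3_40r) (AllP.cons (Just.rot hT hi hR rot3_41 rot3_41r) (AllP.cons (Just.rot hT hi hR rot3_42 rot3_42r) (AllP.cons (Just.rot hT hi hR rot3_43 rot3_43r) (AllP.nil))))))))))))))))))))))))))))))))))))))))))))
theorem hlet : AllP (LetOk H (letV a EX) T L) L :=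
  show AllP (LetOk H (letV a EX) T L) [1, 2, 3] from AllP.cons (let1 hi hR hb) (AllP.cons (let2 hi hR hb) (AllP.cons (let3 hi hR hb) (AllP.nil)))
end

theorem cert : Cert 3 3 RL BW fP 21504 :=
  Cert.of hT ⟨hsq, hrel⟩ hPZ (fun _ _ _ hi hR _ hb => hlet hi hR hb) hcov hg (by decide +kernel)

end Cfsg.Agent.Spor.C3F
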